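import Cfsg.Agent.H634.OneP.Main

/-!
# S4876: the code of a `p`-section, `p = 5`, `k(B₀) = 6` (helper683)

* `f5` : a finite check over `𝔽₅`;
* `no_code` : no isotropic Frobenius-stable subspace of dimension at least 2 of `K⁶`, `char K = 5`, with three equal
  coordinates, which contains a vector with these coordinates equal to 1;
* `not_six` : the principal block.
-/

set_option autoImplicit false
set_option linter.unusedSectionVars false

open Cfsg IsLocalRing Cfsg.Agent.H634.OneP

namespace Cfsg.Agent.H683.K6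

theorem f5 : ∀ a b c x y z : ZMod 5, a * a + b * b + c * c = 0 → a * x + b * y + c * z = 0 →
    3 + (x * x + y * y + z * z) = 0 → a = 0 ∧ b = 0 ∧ c = 0 := by
  decide +kernel

/-- elements fixed by Frobenius -/
theorem exists_cast {K : Type*} [Field K] {p : ℕ} [Fact p.Prime] [CharP K p] {t : K} (h : t ^ p = t) :
    ∃ n : ZMod p, ZMod.castHom (dvd_refl p) K n = t := by
  classical
  have hp : p.Prime := Fact.out
  by_contra hno
  push Not at hno
  set P : Polynomial K := Polynomial.X ^ p - Polynomial.X with hP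
  have hP0 : P ≠ 0 := FiniteField.X_pow_card_sub_X_ne_zero K hp.one_lt
  set φ := ZMod.castHom (dvd_refl p) K with hφ
  have hinj : Function.Injective φ := φ.injective
  let s : Finset K := insert t ((Finset.univ : Finset (ZMod p)).image φ)
  have hs : ∀ x ∈ s, P.IsRoot x := by
    intro x hx
    rw [Polynomial.IsRoot, hP, Polynomial.eval_sub, Polynomial.eval_pow, Polynomial.eval_X, sub_eq_zero]
    rcases Finset.mem_insert.1 hx with rfl | hx
    · exact h
    · obtain ⟨n, -, rfl⟩ := Finset.mem_image.1 hx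
      rw [← map_pow, ZMod.pow_card]
  have h1 : s.card ≤ P.natDegree := by
    refine (Finset.card_le_card (t := P.roots.toFinset) fun x hx => ?_).trans
      ((Multiset.toFinset_card_le _).trans (Polynomial.card_roots' P))
    rw [Multiset.mem_toFinset, Polynomial.mem_roots hP0]
    exact hs x hx
  have h2 : P.natDegree = p := FiniteField.X_pow_card_sub_X_natDegree_eq K hp.one_lt
  have h3 : s.card = p + 1 := by
    rw [Finset.card_insert_of_notMem, Finset.card_image_of_injective _ hinj, Finset.card_univ, ZMod.card]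
    intro h
    obtain ⟨n, -, hn⟩ := Finset.mem_image.1 h
    exact hno n hn
  omega

theorem no_code {K : Type*} [Field K] [CharP K 5] {B : Type*} [Fintype B] [DecidableEq B] (hB : Fintype.card B = 6)
    (U : Submodule K (B → K)) (hiso : ∀ v ∈ U, ∀ w ∈ U, ∑ b, v b * w b = 0)
    (hfrob : ∀ v ∈ U, (fun b => v b ^ 5) ∈ U) (hdim : 2 ≤ Module.finrank K U) (b : Fin 3 → B)
    (hb : Function.Injective b) (heq : ∀ v ∈ U, ∀ i j, v (b i) = v (b j)) {w : B → K} (hw : w ∈ U)
    (hw1 : w (b 0) = 1) (hwf : ∀ c, w c ^ 5 = w c) : False := by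
  classical
  have : Fact (Nat.Prime 5) := ⟨by norm_num⟩
  -- a rational vector with `v (b 0) = 0`
  obtain ⟨I, _, _, a, φ, ha, hφ⟩ := H25.IsoFrob.exists_coord U
  have hI : Fintype.card I = Module.finrank K U := by
    rw [φ.finrank_eq, Module.finrank_pi]
  set u : I → U := fun i => φ.symm (Pi.single i 1) with hu
  have hua : ∀ i j, (u i : B → K) (a j) = (Pi.single i 1 : I → K) j := by
    intro i j
    rw [← hφ, hu]
    simp
  have hfix : ∀ i c, (u i : B → K) c ^ 5 = (u i : B → K) c := by
    intro i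
    have h1 : φ ⟨_, hfrob _ (u i).2⟩ = φ (u i) := by
      ext j
      rw [hφ, hφ]
      simp only [hua]
      by_cases h : j = i
      · subst h; simp
      · simp [h]
    have h2 := congrArg Subtype.val (φ.injective h1)
    intro c
    exact congrFun h2 c
  obtain ⟨i, j, hij⟩ : ∃ i j : I, i ≠ j := by
    apply Fintype.exists_pair_of_one_lt_card
    omega
  obtain ⟨v, hvU, hvf, hv0, hvne⟩ : ∃ v : B → K, v ∈ U ∧ (∀ c, v c ^ 5 = v c) ∧ v (b 0) = 0 ∧ v ≠ 0 := by
    by_cases h0 : (u i : B → K) (b 0) = 0
    · refine ⟨u i, (u i).2, hfix i, h0, fun h => ?_⟩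
      have h1 := hua i i
      rw [h, Pi.single_eq_same] at h1
      exact zero_ne_one h1
    · refine ⟨(u j : B → K) (b 0) • (u i : B → K) - (u i : B → K) (b 0) • (u j : B → K),
        U.sub_mem (U.smul_mem _ (u i).2) (U.smul_mem _ (u j).2), fun c => ?_, ?_, fun h => ?_⟩
      · simp only [Pi.sub_apply, Pi.smul_apply, smul_eq_mul]
        rw [sub_pow_char, mul_pow, mul_pow, hfix, hfix, hfix, hfix]
      · simp only [Pi.sub_apply, Pi.smul_apply, smul_eq_mul]
        ring
      · have h1 := congrFun h (a j)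
        simp only [Pi.sub_apply, Pi.smul_apply, smul_eq_mul, Pi.zero_apply] at h1
        rw [hua, hua, Pi.single_eq_same, Pi.single_eq_of_ne hij.symm, mul_zero, mul_one, zero_sub, neg_eq_zero] at h1
        exact h0 h1
  -- coordinates
  have hcompl : (Finset.univ.image b)ᶜ.card = 3 := by
    rw [Finset.card_compl, hB, Finset.card_image_of_injective _ hb, Finset.card_univ, Fintype.card_fin]
  obtain ⟨c0, c1, c2, h01, h02, h12, hc⟩ := Finset.card_eq_three.1 hcompl
  have hsum : ∀ f : B → K, ∑ x, f x = (f (b 0) + f (b 1) + f (b 2)) + (f c0 + f c1 + f c2) := by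
    intro f
    rw [← Finset.sum_add_sum_compl (Finset.univ.image b) f, hc, Finset.sum_image fun _ _ _ _ h => hb h,
      Fin.sum_univ_three, Finset.sum_insert (by simp [h01, h02]), Finset.sum_insert (by simp [h12]),
      Finset.sum_singleton]
    ring
  have hv1 : v (b 1) = 0 := by rw [heq v hvU 1 0, hv0]
  have hv2 : v (b 2) = 0 := by rw [heq v hvU 2 0, hv0]
  have hw1' : w (b 1) = 1 := by rw [heq w hw 1 0, hw1]
  have hw2' : w (b 2) = 1 := by rw [heq w hw 2 0, hw1]
  have e1 := hiso v hvU v hvU
  have e2 := hiso v hvU w hw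
  have e3 := hiso w hw w hw
  rw [hsum] at e1 e2 e3
  rw [hv0, hv1, hv2] at e1 e2
  rw [hw1, hw1', hw2'] at e3
  obtain ⟨A0, hA0⟩ := exists_cast (hvf c0)
  obtain ⟨A1, hA1⟩ := exists_cast (hvf c1)
  obtain ⟨A2, hA2⟩ := exists_cast (hvf c2)
  obtain ⟨D0, hD0⟩ := exists_cast (hwf c0)
  obtain ⟨D1, hD1⟩ := exists_cast (hwf c1)
  obtain ⟨D2, hD2⟩ := exists_cast (hwf c2)
  rw [← hA0, ← hA1, ← hA2] at e1 e2
  rw [← hD0, ← hD1, ← hD2] at e2 e3
  set θ := ZMod.castHom (dvd_refl 5) K with hθ
  have hθi : Function.Injective θ := θ.injective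
  have k1 : A0 * A0 + A1 * A1 + A2 * A2 = 0 := hθi (by
    rw [map_add, map_add, map_mul, map_mul, map_mul, map_zero]
    linear_combination e1)
  have k2 : A0 * D0 + A1 * D1 + A2 * D2 = 0 := hθi (by
    rw [map_add, map_add, map_mul, map_mul, map_mul, map_zero]
    linear_combination e2)
  have k3 : 3 + (D0 * D0 + D1 * D1 + D2 * D2) = 0 := hθi (by
    rw [map_add, map_add, map_add, map_mul, map_mul, map_mul, map_zero, map_ofNat]
    linear_combination e3)
  obtain ⟨r0, r1, r2⟩ := f5 A0 A1 A2 D0 D1 D2 k1 k2 k3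
  apply hvne
  funext c
  by_cases hcb : c ∈ Finset.univ.image b
  · obtain ⟨i, -, rfl⟩ := Finset.mem_image.1 hcb
    rw [heq v hvU i 0, hv0]
    rfl
  · have h1 : c ∈ (Finset.univ.image b)ᶜ := Finset.mem_compl.2 hcb
    rw [hc] at h1
    simp only [Finset.mem_insert, Finset.mem_singleton] at h1
    rcases h1 with rfl | rfl | rfl
    · rw [← hA0, r0, map_zero]; rfl
    · rw [← hA1, r1, map_zero]; rfl
    · rw [← hA2, r2, map_zero]; rfl

universe u

/-- **The code of a `p`-section.** -/
theorem exists_code {G : Type u} [Group G] [Finite G] {p : ℕ} [hp : Fact p.Prime] {M : Ideal AlgInt}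
    {V : ValuationSubring ℂ} (hM : IsPModular p M) (hV : H657.Above M V) {x : G} (hx : ∃ k : ℕ, orderOf x = p ^ k)
    (hx1 : x ≠ 1) (hst : ∀ ψ ∈ principalBlock M (Subgroup.centralizer ({x} : Set G)),
      ∀ s s' : Subgroup.centralizer ({x} : Set G), ¬ p ∣ orderOf s → IsConj (s : G) (s' : G) →
        rd V (ψ : Subgroup.centralizer ({x} : Set G) → ℂ) s' =
          rd V (ψ : Subgroup.centralizer ({x} : Set G) → ℂ) s) (e : ℕ)
    (he : e ≤ blockRank p (principalBlock M (Subgroup.centralizer ({x} : Set G))))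
    [Fintype (principalBlock M G)] :
    ∃ U : Submodule (ResidueField V) (principalBlock M G → ResidueField V),
      (∀ v ∈ U, ∀ w ∈ U, ∑ b, v b * w b = 0) ∧ (∀ v ∈ U, (fun b => v b ^ p) ∈ U) ∧
        e ≤ Module.finrank (ResidueField V) U ∧
          (∀ b b' : principalBlock M G, (∀ s ∈ Subgroup.centralizer ({x} : Set G),
            ((b : IrrCharacter G) : G → ℂ) s = ((b' : IrrCharacter G) : G → ℂ) s) → ∀ v ∈ U, v b = v b') ∧
            (fun b : principalBlock M G => rd V ((b : IrrCharacter G) : G → ℂ) 1) ∈ U := by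
  classical
  have : CharP (ResidueField V) p := hV.charP hM
  have : Finite (IrrCharacter G) := Characters.Core.finite_irr
  have := Fintype.ofFinite (IrrCharacter G)
  have := Fintype.ofFinite {s : Subgroup.centralizer ({x} : Set G) // ¬ p ∣ orderOf s}
  let A : Matrix {s : Subgroup.centralizer ({x} : Set G) // ¬ p ∣ orderOf s} (principalBlock M G)
    (ResidueField V) := fun s χ => rd V ((χ : IrrCharacter G) : G → ℂ) ((s : Subgroup.centralizer ({x} : Set G)) : G)
  have hsum : ∀ F : IrrCharacter G → ResidueField V,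
      ∑ χ : principalBlock M G, F χ = ∑ᶠ χ ∈ principalBlock M G, F χ := by
    intro F
    rw [finsum_mem_eq_finite_toFinset_sum _ (Set.toFinite _)]
    exact (Finset.sum_subtype _ (fun χ => Set.Finite.mem_toFinset _) _).symm
  refine ⟨Submodule.span (ResidueField V) (Set.range A.row), ?_, ?_, ?_, ?_, ?_⟩
  · -- isotropic
    intro v hv w hw
    induction hv using Submodule.span_induction with
    | mem v hv =>
      obtain ⟨s, rfl⟩ := hv
      induction hw using Submodule.span_induction with
      | mem w hw =>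
        obtain ⟨s', rfl⟩ := hw
        have h1 := H352.OneP.ortho_mod hM hV hx hx1 s.1 s'.1 s.2 s'.2
        rw [← hsum fun χ => rd V (χ : G → ℂ) ((s.1 : Subgroup.centralizer ({x} : Set G)) : G) *
          rd V (χ : G → ℂ) ((s'.1 : Subgroup.centralizer ({x} : Set G)) : G)] at h1
        exact h1
      | zero => simp
      | add w w' _ _ h h' =>
        simp only [Pi.add_apply, mul_add, Finset.sum_add_distrib, h, h', add_zero]
      | smul c w _ h =>
        have : ∀ b, A.row s b * (c • w) b = c * (A.row s b * w b) := fun b => by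
          rw [Pi.smul_apply, smul_eq_mul]; ring
        rw [Finset.sum_congr rfl fun b _ => this b, ← Finset.mul_sum, h, mul_zero]
    | zero => simp
    | add v v' _ _ h h' =>
      simp only [Pi.add_apply, add_mul, Finset.sum_add_distrib, h, h', add_zero]
    | smul c v _ h =>
      have : ∀ b, (c • v) b * w b = c * (v b * w b) := fun b => by
        rw [Pi.smul_apply, smul_eq_mul]; ring
      rw [Finset.sum_congr rfl fun b _ => this b, ← Finset.mul_sum, h, mul_zero]
  · -- Frobenius
    intro v hv
    induction hv using Submodule.span_induction with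
    | mem v hv =>
      obtain ⟨s, rfl⟩ := hv
      refine Submodule.subset_span ⟨⟨s.1 ^ p, ?_⟩, ?_⟩
      · intro h
        exact s.2 (h.trans (orderOf_pow_dvd p))
      · funext χ
        show rd V ((χ : IrrCharacter G) : G → ℂ) ((s.1 ^ p : Subgroup.centralizer ({x} : Set G)) : G) =
          rd V ((χ : IrrCharacter G) : G → ℂ) ((s.1 : Subgroup.centralizer ({x} : Set G)) : G) ^ p
        rw [H352.OneP.frob_mod hM hV, Subgroup.coe_pow]
    | zero =>
      have h0 : (fun b => (0 : principalBlock M G → ResidueField V) b ^ p) = 0 := by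
        funext b
        simp [hp.out.ne_zero]
      rw [h0]
      exact Submodule.zero_mem _
    | add v w _ _ h h' =>
      have h0 : (fun b => (v + w) b ^ p) = (fun b => v b ^ p) + fun b => w b ^ p := by
        funext b
        exact add_pow_char _ _ p
      rw [h0]
      exact Submodule.add_mem _ h h'
    | smul c v _ h =>
      have h0 : (fun b => (c • v) b ^ p) = c ^ p • fun b => v b ^ p := by
        funext b
        rw [Pi.smul_apply, Pi.smul_apply, smul_eq_mul, smul_eq_mul, mul_pow]
      rw [h0]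
      exact Submodule.smul_mem _ _ h
  · -- the dimension
    rw [← Matrix.rank_eq_finrank_span_row, Matrix.rank_eq_finrank_span_cols]
    refine he.trans ((H973.RankMod.rank_mod hM hV).trans (Submodule.finrank_mono ?_))
    rw [Submodule.span_le]
    rintro _ ⟨ψ, hψ, rfl⟩
    obtain ⟨a, ha⟩ := exists_lift hM hV hx hψ (hst ψ hψ)
    have h1 : (fun s : {s : Subgroup.centralizer ({x} : Set G) // ¬ p ∣ orderOf s} =>
        rd V (ψ : Subgroup.centralizer ({x} : Set G) → ℂ) s) = ∑ χ : principalBlock M G, a χ • A.col χ := by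
      funext s
      rw [ha s s.2, Finset.sum_apply, ← hsum fun χ => a χ * rd V (χ : G → ℂ) ((s.1 : Subgroup.centralizer ({x} : Set G)) : G)]
      rfl
    show (fun s : {s : Subgroup.centralizer ({x} : Set G) // ¬ p ∣ orderOf s} =>
        rd V (ψ : Subgroup.centralizer ({x} : Set G) → ℂ) s) ∈ _
    rw [h1]
    exact Submodule.sum_mem _ fun χ _ => Submodule.smul_mem _ _ (Submodule.subset_span ⟨χ, rfl⟩)
  · -- equal coordinates
    intro b b' hbb v hv
    induction hv using Submodule.span_induction with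
    | mem v hv =>
      obtain ⟨s, rfl⟩ := hv
      change rd V ((b : IrrCharacter G) : G → ℂ) (s.1 : G) = rd V ((b' : IrrCharacter G) : G → ℂ) (s.1 : G)
      unfold rd
      simp only [hbb s.1 s.1.2]
    | zero => rfl
    | add v v' _ _ h h' => rw [Pi.add_apply, Pi.add_apply, h, h']
    | smul c v _ h => rw [Pi.smul_apply, Pi.smul_apply, h]
  · refine Submodule.subset_span ⟨⟨1, ?_⟩, ?_⟩
    · rw [orderOf_one]
      exact fun h => hp.out.one_lt.ne' (Nat.dvd_one.1 h)
    · funext b
      rfl

/-- **`k(B₀) ≠ 6`** if three members of the principal block are trivial on the centralizer of `x`. -/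
theorem not_six {G : Type u} [Group G] [Finite G] {M : Ideal AlgInt} [hp : Fact (Nat.Prime 5)] (hM : IsPModular 5 M)
    (P : Sylow 5 G) (hP : Nat.card P = 5 ^ 2) (hel : ∀ x ∈ (P : Subgroup G), x ^ 5 = 1) {x : G}
    (hx : x ∈ (P : Subgroup G)) (hx1 : x ≠ 1)
    (he : 2 ≤ (Subgroup.centralizer ((P : Subgroup G) : Set G)).relIndex
      (Subgroup.normalizer ((P : Subgroup G) : Set G) ⊓ Subgroup.centralizer ({x} : Set G)))
    (b : Fin 3 → IrrCharacter G) (hb : Function.Injective b) (hbB : ∀ i, b i ∈ principalBlock M G)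
    (hb1 : ∀ i, ∀ s ∈ Subgroup.centralizer ({x} : Set G), (b i : G → ℂ) s = 1) :
    Nat.card (principalBlock M G) ≠ 6 := by
  classical
  intro h6
  obtain ⟨V, hV⟩ := H657.exists_above hM
  have : CharP (ResidueField V) 5 := hV.charP hM
  have : Finite (IrrCharacter G) := Characters.Core.finite_irr
  have := Fintype.ofFinite (principalBlock M G)
  have hxo : orderOf x = 5 := by
    have h1 : orderOf x ∣ 5 := orderOf_dvd_of_pow_eq_one (hel x hx)
    rcases (Nat.dvd_prime hp.out).1 h1 with h | h
    · exact absurd (orderOf_eq_one_iff.1 h) hx1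
    · exact h
  obtain ⟨U, h1, h2, h3, h4, h5⟩ := exists_code hM hV ⟨1, by rw [hxo, pow_one]⟩ hx1
    (fun ψ hψ s s' hs hc => by
      refine H417.OneP.stable hM hV P hP hxo hψ (fun n hn s s' hs hss => ?_) s s' hs hc
      exact H426.OneP.triv_of normalTriv hM (by norm_num) P hP hel hx hx1 (by omega) hψ hn s s' hs hss) 2
    (by
      rw [H963.OneP.RankEq.rank_eq hM (by norm_num) P hP hel hx hx1]
      exact he)
  have hone : ∀ i, (b i : G → ℂ) 1 = 1 := fun i => hb1 i 1 (Subgroup.one_mem _)
  refine no_code (by rw [← h6, Nat.card_eq_fintype_card]) U h1 h2 h3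
    (fun i => (⟨b i, hbB i⟩ : principalBlock M G)) (fun i j h => hb (congrArg Subtype.val h))
    (fun v hv i j => h4 _ _ (fun s hs => by rw [hb1 i s hs, hb1 j s hs]) v hv) h5 ?_ ?_
  · change rd V (b 0 : G → ℂ) 1 = 1
    have h7 : (b 0 : G → ℂ) 1 = ((1 : V) : ℂ) := by rw [hone]; rfl
    rw [H352.OneP.rd_eq h7, map_one]
  · intro c
    have h7 := H352.OneP.frob_mod hM hV (c : IrrCharacter G) 1
    rw [one_pow] at h7
    exact h7

end Cfsg.Agent.H683.K6
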