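import Cfsg.Agent.H61.K6.Base

/-!
# S4876: an abelian Sylow subgroup with an element of order `p²` (helper683)
-/

set_option autoImplicit false
set_option linter.unusedSectionVars false

open Cfsg Subgroup Cfsg.Agent.H634

namespace Cfsg.Agent.H683.K6

variable {G : Type*} [Group G] [Finite G] {p : ℕ} [hp : Fact p.Prime]

/-- an element of `N_G(⟨x⟩)` which induces an automorphism of order dividing `p` centralizes `x`, if the centralizer of
`x` contains a Sylow subgroup -/
theorem comm_of_pow {x c : G} (P : Sylow p G) (hP : (P : Subgroup G) ≤ centralizer ({x} : Set G))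
    (hc : c ∈ normalizer ((zpowers x : Subgroup G) : Set G)) (hcp : c ^ p ∈ centralizer ({x} : Set G)) :
    c ∈ centralizer ({x} : Set G) := by
  classical
  set N := normalizer ((zpowers x : Subgroup G) : Set G) with hN
  set C := centralizer ({x} : Set G) with hC
  have hCN : C ≤ N := by
    intro g hg
    have h1 : g * x = x * g := mem_centralizer_singleton_iff.1 hg
    rw [hN, mem_normalizer_iff]
    intro y
    have h2 : ∀ y ∈ zpowers x, g * y * g⁻¹ = y := by
      rintro _ ⟨k, rfl⟩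
      have h3 : g * x * g⁻¹ = x := by rw [h1, mul_inv_cancel_right]
      change g * x ^ k * g⁻¹ = x ^ k
      rw [← conj_zpow, h3]
    constructor
    · intro hy
      rw [h2 y hy]
      exact hy
    · intro hy
      have h3 := h2 _ hy
      have h4 : g * y * g⁻¹ = y := by
        apply mul_left_cancel (a := g)
        apply mul_right_cancel (b := g⁻¹)
        calc g * (g * y * g⁻¹) * g⁻¹ = g * y * g⁻¹ := h3
          _ = g * y * g⁻¹ := rfl
      rw [← h4]
      exact hy
  have hnorm : (C.subgroupOf N).Normal := by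
    refine ⟨fun a ha g => ?_⟩
    rw [mem_subgroupOf] at ha ⊢
    have h1 : (a : G) * x = x * a := mem_centralizer_singleton_iff.1 ha
    rw [hC, mem_centralizer_singleton_iff]
    change (g : G) * a * (g : G)⁻¹ * x = x * ((g : G) * a * (g : G)⁻¹)
    -- `g⁻¹ x g = x ^ k`
    have h2 : (g : G)⁻¹ * x * ((g : G)⁻¹)⁻¹ ∈ zpowers x :=
      (mem_normalizer_iff.1 (N.inv_mem g.2) x).1 (mem_zpowers x)
    obtain ⟨k, hk⟩ := h2
    have hk' : x ^ k = (g : G)⁻¹ * x * (g : G) := by
      have : x ^ k = (g : G)⁻¹ * x * ((g : G)⁻¹)⁻¹ := hk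
      rw [this, inv_inv]
    have h3 : (a : G) * x ^ k = x ^ k * a := (show Commute (a : G) x from h1).zpow_right k
    calc (g : G) * a * (g : G)⁻¹ * x = (g : G) * (a * ((g : G)⁻¹ * x * g)) * (g : G)⁻¹ := by group
      _ = (g : G) * (((g : G)⁻¹ * x * g) * a) * (g : G)⁻¹ := by rw [← hk', h3]
      _ = x * ((g : G) * a * (g : G)⁻¹) := by group
  have hidx : ¬ p ∣ (C.subgroupOf N).index := by
    intro h
    have h1 : C.relIndex N ∣ C.index := relIndex_dvd_index_of_le hCN
    exact P.not_dvd_index ((h.trans h1).trans (index_dvd_of_le hP))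
  have h1 : (⟨c, hc⟩ : N) ^ (C.subgroupOf N).index ∈ C.subgroupOf N := pow_index_mem _ _
  rw [mem_subgroupOf] at h1
  have h2 : c ^ (C.subgroupOf N).index ∈ C := h1
  have hcop : Nat.Coprime p (C.subgroupOf N).index := (Nat.Prime.coprime_iff_not_dvd hp.out).2 hidx
  have h3 := Nat.gcd_eq_gcd_ab p (C.subgroupOf N).index
  rw [hcop] at h3
  have h4 : c = (c ^ p) ^ (Nat.gcdA p (C.subgroupOf N).index) *
      (c ^ (C.subgroupOf N).index) ^ (Nat.gcdB p (C.subgroupOf N).index) := by
    rw [← zpow_natCast, ← zpow_natCast, ← zpow_mul, ← zpow_mul, ← zpow_add, ← h3]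
    simp
  rw [h4]
  exact C.mul_mem (C.zpow_mem hcp _) (C.zpow_mem h2 _)

/-- the elements `x ^ (1 + p k)` are not conjugate -/
theorem pow_inj {x : G} (P : Sylow p G) (hP : (P : Subgroup G) ≤ centralizer ({x} : Set G))
    (ho : orderOf x = p ^ 2) {k l : ℕ} (hk : k < p) (hl : l < p) (h : IsConj (x ^ (1 + p * k)) (x ^ (1 + p * l))) :
    k = l := by
  have hpp := hp.out
  obtain ⟨c, hc⟩ := isConj_iff.1 h
  -- an inverse of `1 + p k`
  have hcop : ∀ m : ℕ, Nat.Coprime (1 + p * m) (p ^ 2) := fun m => by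
    apply Nat.Coprime.pow_right
    rw [Nat.coprime_comm, Nat.Prime.coprime_iff_not_dvd hpp]
    intro h1
    exact hpp.one_lt.ne' (Nat.dvd_one.1 ((Nat.dvd_add_left (dvd_mul_right p m)).1 h1))
  obtain ⟨m, hm⟩ : ∃ m : ℕ, (x ^ (1 + p * k)) ^ m = x :=
    exists_pow_eq_self_of_coprime (by rw [ho]; exact hcop k)
  have hkm : (1 + p * k) * m ≡ 1 [MOD p ^ 2] := by
    rw [← ho, ← pow_eq_pow_iff_modEq, pow_mul, hm, pow_one]
  have hcx : c * x * c⁻¹ = x ^ ((1 + p * l) * m) := by
    conv_lhs => rw [← hm]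
    rw [← conj_pow, hc, ← pow_mul]
  set r := (1 + p * l) * m with hr
  have hr1 : r ≡ 1 [MOD p] := by
    have h1 : (1 + p * k) * m ≡ 1 [MOD p] := hkm.of_dvd (dvd_pow_self p two_ne_zero)
    have h2 : 1 + p * k ≡ 1 + p * l [MOD p] := by
      have : ∀ n, 1 + p * n ≡ 1 [MOD p] := fun n => by
        have := Nat.ModEq.add_left 1 (Nat.modEq_zero_iff_dvd.2 (dvd_mul_right p n))
        simpa using this
      exact (this k).trans (this l).symm
    exact (h2.symm.mul_right m).trans h1
  -- the `p`-th power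
  have hrp : r ^ p ≡ 1 [MOD p ^ 2] := by
    have h1 : (r : ℤ) ≡ 1 [ZMOD (p : ℤ)] := by exact_mod_cast (Int.natCast_modEq_iff.2 hr1)
    obtain ⟨s, hs⟩ := h1.symm.dvd
    have h2 : ((p : ℤ) ^ 2) ∣ (r : ℤ) ^ p - 1 := by
      have h3 := Int.ModEq.symm h1
      have h4 : (r : ℤ) = 1 + p * s := by linarith
      rw [h4]
      have h5 : ((p : ℤ) ^ 2) ∣ (1 + p * s) ^ p - 1 ^ p := by
        have h6 : (p : ℤ) ∣ (1 + (p : ℤ) * s) - 1 := ⟨s, by ring⟩
        have := dvd_sub_pow_of_dvd_sub (R := ℤ) (p := p) (a := 1 + (p : ℤ) * s) (b := 1) h6 1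
        simpa using this
      simpa using h5
    have h3 : ((r ^ p : ℕ) : ℤ) ≡ ((1 : ℕ) : ℤ) [ZMOD ((p ^ 2 : ℕ) : ℤ)] := by
      push_cast
      exact (Int.modEq_iff_dvd.2 (by
        have := dvd_neg.2 h2
        have e : -((r : ℤ) ^ p - 1) = 1 - (r : ℤ) ^ p := by ring
        rwa [e] at this))
    exact_mod_cast Int.natCast_modEq_iff.1 h3
  have hpow : ∀ n : ℕ, c ^ n * x * (c ^ n)⁻¹ = x ^ (r ^ n) := by
    intro n
    induction n with
    | zero => simp
    | succ n ih =>
      have e1 : c ^ (n + 1) * x * (c ^ (n + 1))⁻¹ = c * (c ^ n * x * (c ^ n)⁻¹) * c⁻¹ := by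
        rw [pow_succ']
        group
      rw [e1, ih, ← conj_pow, hcx, ← pow_mul, pow_succ']
  have hcp : c ^ p ∈ centralizer ({x} : Set G) := by
    rw [mem_centralizer_singleton_iff]
    have h1 := hpow p
    have h2 : x ^ (r ^ p) = x ^ 1 := by rw [pow_eq_pow_iff_modEq, ho]; exact hrp
    rw [h2, pow_one, mul_inv_eq_iff_eq_mul] at h1
    exact h1
  have hcN : c ∈ normalizer ((zpowers x : Subgroup G) : Set G) := by
    have h1 : ∀ y ∈ zpowers x, c * y * c⁻¹ ∈ zpowers x := by
      rintro _ ⟨n, rfl⟩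
      change c * x ^ n * c⁻¹ ∈ zpowers x
      rw [← conj_zpow, hcx]
      exact (zpowers x).zpow_mem ((zpowers x).pow_mem (mem_zpowers x) _) _
    have h2 : (zpowers x).map (MulAut.conj c).toMonoidHom = zpowers x := by
      apply Subgroup.eq_of_le_of_card_ge
      · rintro _ ⟨z, hz, rfl⟩
        exact h1 z hz
      · exact (Nat.card_congr ((zpowers x).equivMapOfInjective _ (MulAut.conj c).injective).toEquiv).le
    rw [mem_normalizer_iff]
    intro z
    constructor
    · exact h1 z
    · intro hz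
      have h3 : c * z * c⁻¹ ∈ (zpowers x).map (MulAut.conj c).toMonoidHom := by rw [h2]; exact hz
      obtain ⟨w, hw, hwz⟩ := h3
      have h4 : c * w * c⁻¹ = c * z * c⁻¹ := hwz
      have h5 : w = z := mul_left_cancel (mul_right_cancel h4)
      rw [← h5]
      exact hw
  have hcc := comm_of_pow P hP hcN hcp
  have h1 : c * x = x * c := mem_centralizer_singleton_iff.1 hcc
  have h2 : x ^ (1 + p * k) = x ^ (1 + p * l) := by
    rw [← hc, (show Commute c x from h1).pow_right (1 + p * k) |>.eq, mul_inv_cancel_right]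
  have h3 := pow_eq_pow_iff_modEq.1 h2
  rw [ho] at h3
  have h4 : ∀ n < p, 1 + p * n < p ^ 2 + 1 := fun n hn => by
    have : p * n < p * p := Nat.mul_lt_mul_of_pos_left hn hpp.pos
    rw [pow_two]; omega
  have h5 : p * k ≡ p * l [MOD p ^ 2] := Nat.ModEq.add_left_cancel' 1 h3
  have h6 : k ≡ l [MOD p] := by
    rw [pow_two] at h5
    exact Nat.ModEq.mul_left_cancel' hpp.ne_zero h5
  exact Nat.ModEq.eq_of_lt_of_lt h6 hk hl

/-- **`p + 1` classes of nontrivial `p`-elements** -/
theorem le_of_sq {M : Ideal AlgInt} (hM : IsPModular p M) (P : Sylow p G) {x : G}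
    (hP : (P : Subgroup G) ≤ centralizer ({x} : Set G)) (ho : orderOf x = p ^ 2) (hc : ¬ HasNormalPComplement p G) :
    p + 3 ≤ Nat.card (principalBlock M G) := by
  classical
  have hpp := hp.out
  have hone : ∀ k : ℕ, orderOf (x ^ (1 + p * k)) = p ^ 2 := by
    intro k
    have h1 : Nat.Coprime (p ^ 2) (1 + p * k) := by
      apply Nat.Coprime.pow_left
      rw [Nat.Prime.coprime_iff_not_dvd hpp]
      intro h1
      exact hpp.one_lt.ne' (Nat.dvd_one.1 ((Nat.dvd_add_left (dvd_mul_right p k)).1 h1))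
    rw [Nat.Coprime.orderOf_pow (by rw [ho]; exact h1), ho]
  have hxp : orderOf (x ^ p) = p := by
    rw [orderOf_pow' _ hpp.ne_zero, ho, pow_two, Nat.gcd_mul_left_left, Nat.mul_div_cancel _ hpp.pos]
  set T₁ : Finset G := (Finset.univ : Finset (Fin p)).image fun k : Fin p => x ^ (1 + p * (k : ℕ)) with hT₁
  have hinj : Function.Injective fun k : Fin p => x ^ (1 + p * (k : ℕ)) := fun k l h =>
    Fin.ext (pow_inj P hP ho k.2 l.2 (by
      change x ^ (1 + p * (k : ℕ)) = x ^ (1 + p * (l : ℕ)) at h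
      rw [h]))
  have hcard : T₁.card = p := by rw [hT₁, Finset.card_image_of_injective _ hinj, Finset.card_univ, Fintype.card_fin]
  have hT₁o : ∀ y ∈ T₁, orderOf y = p ^ 2 := by
    intro y hy
    obtain ⟨k, -, rfl⟩ := Finset.mem_image.1 hy
    exact hone k
  have hpne : p ^ 2 ≠ p := by
    intro h
    have : p * p = p * 1 := by rw [mul_one, ← pow_two]; exact h
    exact hpp.one_lt.ne' (Nat.eq_of_mul_eq_mul_left hpp.pos this)
  have hp2ne : p ^ 2 ≠ 1 := by
    intro h
    have := Nat.one_lt_pow (n := 2) (by norm_num) hpp.one_lt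
    omega
  have h2 : x ^ p ∉ T₁ := fun h => by
    have := hT₁o _ h
    rw [hxp] at this
    exact hpne this.symm
  have h1 : (1 : G) ∉ insert (x ^ p) T₁ := by
    intro h
    rcases Finset.mem_insert.1 h with h | h
    · rw [← h, orderOf_one] at hxp
      exact hpp.one_lt.ne hxp
    · have := hT₁o _ h
      rw [orderOf_one] at this
      exact hp2ne this.symm
  have h3 := TwoA.sum_rank_le hM (insert 1 (insert (x ^ p) T₁)) (by
    intro y hy
    rcases Finset.mem_insert.1 hy with rfl | hy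
    · exact ⟨0, by simp⟩
    rcases Finset.mem_insert.1 hy with rfl | hy
    · exact ⟨1, by rw [hxp, pow_one]⟩
    · exact ⟨2, hT₁o y hy⟩) (by
    intro y hy y' hy' hyy
    have ho' : orderOf y = orderOf y' := by
      obtain ⟨c, hc⟩ := isConj_iff.1 hyy
      rw [← hc]
      exact (orderOf_injective (MulAut.conj c).toMonoidHom (MulAut.conj c).injective y).symm
    rcases Finset.mem_insert.1 hy with rfl | hy
    · exact (isConj_one_right.1 hyy).symm
    rcases Finset.mem_insert.1 hy' with rfl | hy'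
    · exact isConj_one_right.1 hyy.symm
    rcases Finset.mem_insert.1 hy with rfl | hy
    · rcases Finset.mem_insert.1 hy' with rfl | hy'
      · rfl
      · rw [hxp, hT₁o _ hy'] at ho'
        exact absurd ho'.symm hpne
    rcases Finset.mem_insert.1 hy' with rfl | hy'
    · rw [hxp, hT₁o _ hy] at ho'
      exact absurd ho' hpne
    obtain ⟨k, -, rfl⟩ := Finset.mem_image.1 hy
    obtain ⟨l, -, rfl⟩ := Finset.mem_image.1 hy'
    rw [pow_inj P hP ho k.2 l.2 hyy])
  rw [Finset.sum_insert h1, TwoA.rank_one_eq hM, Finset.sum_insert h2] at h3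
  have h4 := H61.K6.two_le_rank hM hc
  have h5 : 1 ≤ blockRank p (principalBlock M ↥(centralizer ({x ^ p} : Set G))) := by
    have := Fintype.ofFinite ↥(centralizer ({x ^ p} : Set G))
    exact Cols.blockRank_pos hM
  have h6 : T₁.card * 1 ≤ ∑ y ∈ T₁, blockRank p (principalBlock M ↥(centralizer ({y} : Set G))) := by
    rw [← smul_eq_mul]
    refine Finset.card_nsmul_le_sum _ _ _ fun y _ => ?_
    have := Fintype.ofFinite ↥(centralizer ({y} : Set G))
    exact Cols.blockRank_pos hM
  rw [hcard] at h6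
  omega

end Cfsg.Agent.H683.K6
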