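import Cfsg.Agent.H683.K6.OTwo

/-!
# `PΩ₈⁺(q)`, `p ∣ q² - 1`: three classes (helper683, S4876)
-/

set_option autoImplicit false
set_option linter.unusedSectionVars false

open QuadraticMap Module Cfsg Cfsg.Agent.LieClassical.OrthCore Cfsg.Agent.LieClassical.OrthTrans
open Cfsg.Agent.H587.KB8 Cfsg.Agent.H932 Cfsg.Agent.H61.K6 Cfsg.Agent.ClassicalGeometry.OrthAut1
open Cfsg.Agent.H200.LinFix (Ordd)

universe u

namespace Cfsg.Agent.H683.K6

section third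

variable {F : Type} [Field F] (g : Matrix.SpecialLinearGroup (Fin 2) F)

/-- the three-cycle -/
def tau : Equiv.Perm (Fin 4) := Equiv.swap 0 1 * Equiv.swap 1 2

theorem tau_zero : tau 0 = 1 := by decide
theorem tau_one : tau 1 = 2 := by decide
theorem tau_two : tau 2 = 0 := by decide
theorem tau_three : tau 3 = 3 := by decide

theorem pm_tau (w : Fin 4 → (Fin 2 → F)) : pm tau w = ![w 1, w 2, w 0, w 3] := by
  funext k
  rw [pm_apply]
  fin_cases k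
  · exact congrArg w tau_zero
  · exact congrArg w tau_one
  · exact congrArg w tau_two
  · exact congrArg w tau_three

theorem pm_tau_pow : (pm (F := F) tau) ^ 3 = 1 := by
  ext1 w
  change pm tau (pm tau (pm tau w)) = w
  rw [pm_tau, pm_tau, pm_tau]
  funext k
  fin_cases k <;> rfl

theorem g_pow_mod {p : ℕ} (hg : g ^ p = 1) (n : ℕ) : g ^ (n + p) = g ^ n := by rw [pow_add, hg, mul_one]

theorem conj_seven (hg : g ^ 7 = 1) :
    pm tau * dz g ![1, 2, 4, 0] * (pm tau)⁻¹ = (dz g ![1, 2, 4, 0]) ^ 2 := by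
  rw [mul_inv_eq_iff_eq_mul]
  ext1 w
  change pm tau (dz g ![1, 2, 4, 0] w) = (dz g ![1, 2, 4, 0] ^ 2) (pm tau w)
  rw [pm_tau, pm_tau]
  funext k
  rw [dz_pow_apply]
  fin_cases k
  · change Matrix.SpecialLinearGroup.toLin' (g ^ 2) (w 1) = Matrix.SpecialLinearGroup.toLin' ((g ^ 1) ^ 2) (w 1)
    rw [← pow_mul]
  · change Matrix.SpecialLinearGroup.toLin' (g ^ 4) (w 2) = Matrix.SpecialLinearGroup.toLin' ((g ^ 2) ^ 2) (w 2)
    rw [← pow_mul]
  · change Matrix.SpecialLinearGroup.toLin' (g ^ 1) (w 0) = Matrix.SpecialLinearGroup.toLin' ((g ^ 4) ^ 2) (w 0)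
    rw [← pow_mul, show 4 * 2 = 1 + 7 from rfl, pow_add, hg, mul_one]
  · change Matrix.SpecialLinearGroup.toLin' (g ^ 0) (w 3) = Matrix.SpecialLinearGroup.toLin' ((g ^ 0) ^ 2) (w 3)
    rw [pow_zero, one_pow]

/-- `(w₀, w₁, w₂, w₃) ↦ (w₁, r w₀, w₂, w₃)` -/
def bb (r : (Fin 2 → F) ≃ₗ[F] (Fin 2 → F)) : (Fin 4 → (Fin 2 → F)) ≃ₗ[F] (Fin 4 → (Fin 2 → F)) :=
  ar r 1 * pm (Equiv.swap 0 1)

theorem bb_apply (r : (Fin 2 → F) ≃ₗ[F] (Fin 2 → F)) (w : Fin 4 → (Fin 2 → F)) :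
    bb r w = ![w 1, r (w 0), w 2, w 3] := by
  change ar r 1 (pm (Equiv.swap 0 1) w) = _
  funext k
  rw [ar_apply, pm_apply]
  fin_cases k <;> rfl

/-- `(w₀, w₁, w₂, w₃) ↦ (w₂, w₃, w₀, w₁)` -/
def ss : (Fin 4 → (Fin 2 → F)) ≃ₗ[F] (Fin 4 → (Fin 2 → F)) := pm (Equiv.swap 0 2 * Equiv.swap 1 3)

theorem ss_apply (w : Fin 4 → (Fin 2 → F)) : ss w = ![w 2, w 3, w 0, w 1] := by
  change pm (Equiv.swap 0 2 * Equiv.swap 1 3) w = _
  funext k
  rw [pm_apply]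
  fin_cases k <;> rfl

theorem ss_inv : (ss (F := F))⁻¹ = ss := by
  rw [inv_eq_iff_mul_eq_one]
  ext1 w
  change ss (ss w) = w
  rw [ss_apply, ss_apply]
  funext k
  fin_cases k <;> rfl

/-- `(w₀, w₁, w₂, w₃) ↦ (w₁, r w₀, w₃, r w₂)` -/
def hh (r : (Fin 2 → F) ≃ₗ[F] (Fin 2 → F)) : (Fin 4 → (Fin 2 → F)) ≃ₗ[F] (Fin 4 → (Fin 2 → F)) :=
  bb r * (ss * bb r * ss⁻¹)

theorem hh_apply (r : (Fin 2 → F) ≃ₗ[F] (Fin 2 → F)) (w : Fin 4 → (Fin 2 → F)) :
    hh r w = ![w 1, r (w 0), w 3, r (w 2)] := by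
  rw [hh, ss_inv]
  change bb r (ss (bb r (ss w))) = _
  rw [ss_apply, bb_apply, ss_apply, bb_apply]
  rfl

theorem conj_five (hg : g ^ 5 = 1) {r : (Fin 2 → F) ≃ₗ[F] (Fin 2 → F)}
    (hr : ∀ v, Matrix.SpecialLinearGroup.toLin' g (r (Matrix.SpecialLinearGroup.toLin' g v)) = r v) :
    hh r * dz g ![1, 2, 0, 0] * (hh r)⁻¹ = (dz g ![1, 2, 0, 0]) ^ 2 := by
  rw [mul_inv_eq_iff_eq_mul]
  ext1 w
  change hh r (dz g ![1, 2, 0, 0] w) = (dz g ![1, 2, 0, 0] ^ 2) (hh r w)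
  rw [hh_apply, hh_apply]
  funext k
  rw [dz_pow_apply]
  fin_cases k
  · change Matrix.SpecialLinearGroup.toLin' (g ^ 2) (w 1) = Matrix.SpecialLinearGroup.toLin' ((g ^ 1) ^ 2) (w 1)
    rw [← pow_mul]
  · change r (Matrix.SpecialLinearGroup.toLin' (g ^ 1) (w 0)) =
      Matrix.SpecialLinearGroup.toLin' ((g ^ 2) ^ 2) (r (w 0))
    apply (Matrix.SpecialLinearGroup.toLin' g).injective
    rw [pow_one, hr, ← LinearEquiv.mul_apply, ← map_mul, ← pow_mul, ← pow_succ', show 2 * 2 + 1 = 5 from rfl, hg,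
      map_one]
    rfl
  · change Matrix.SpecialLinearGroup.toLin' (g ^ 0) (w 3) = Matrix.SpecialLinearGroup.toLin' ((g ^ 0) ^ 2) (w 3)
    rw [pow_zero, one_pow]
  · change r (Matrix.SpecialLinearGroup.toLin' (g ^ 0) (w 2)) =
      Matrix.SpecialLinearGroup.toLin' ((g ^ 0) ^ 2) (r (w 2))
    rw [pow_zero, one_pow, map_one]
    rfl

/-- `(w₀, w₁, w₂, w₃) ↦ (g w₂, w₀, w₁, w₃)` -/
noncomputable def nine : (Fin 4 → (Fin 2 → F)) ≃ₗ[F] (Fin 4 → (Fin 2 → F)) := dz g ![1, 0, 0, 0] * (pm tau)⁻¹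

theorem pm_tau_inv (w : Fin 4 → (Fin 2 → F)) : (pm tau)⁻¹ w = ![w 2, w 0, w 1, w 3] := by
  apply (pm tau).injective
  change pm tau ((pm tau).symm w) = _
  rw [LinearEquiv.apply_symm_apply, pm_tau]
  funext k
  fin_cases k <;> rfl

theorem nine_apply (w : Fin 4 → (Fin 2 → F)) :
    nine g w = ![Matrix.SpecialLinearGroup.toLin' g (w 2), w 0, w 1, w 3] := by
  change dz g ![1, 0, 0, 0] ((pm tau)⁻¹ w) = _
  rw [pm_tau_inv]
  funext k
  rw [dz_apply]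
  fin_cases k
  · change Matrix.SpecialLinearGroup.toLin' (g ^ 1) (w 2) = _
    rw [pow_one]
    rfl
  · change Matrix.SpecialLinearGroup.toLin' (g ^ 0) (w 0) = _
    rw [pow_zero, map_one]
    rfl
  · change Matrix.SpecialLinearGroup.toLin' (g ^ 0) (w 1) = _
    rw [pow_zero, map_one]
    rfl
  · change Matrix.SpecialLinearGroup.toLin' (g ^ 0) (w 3) = _
    rw [pow_zero, map_one]
    rfl

theorem nine_cube : (nine g) ^ 3 = dz g ![1, 1, 1, 0] := by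
  ext1 w
  change nine g (nine g (nine g w)) = _
  rw [nine_apply, nine_apply, nine_apply]
  funext k
  rw [dz_apply]
  fin_cases k
  · change Matrix.SpecialLinearGroup.toLin' g (w 0) = Matrix.SpecialLinearGroup.toLin' (g ^ 1) (w 0)
    rw [pow_one]
  · change Matrix.SpecialLinearGroup.toLin' g (w 1) = Matrix.SpecialLinearGroup.toLin' (g ^ 1) (w 1)
    rw [pow_one]
  · change Matrix.SpecialLinearGroup.toLin' g (w 2) = Matrix.SpecialLinearGroup.toLin' (g ^ 1) (w 2)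
    rw [pow_one]
  · change w 3 = Matrix.SpecialLinearGroup.toLin' (g ^ 0) (w 3)
    rw [pow_zero, map_one]
    rfl

end third

theorem exists_l (q : ℕ) (hq : 2 ≤ q) : ∃ l : ℕ, l.Prime ∧ l ≠ 2 ∧ l ∣ q ^ 2 + 1 := by
  rcases Nat.eq_two_pow_or_exists_odd_prime_and_dvd (q ^ 2 + 1) with ⟨k, hk⟩ | ⟨l, hl, hd, ho⟩
  · exfalso
    have h4 : 5 ≤ q ^ 2 + 1 := by nlinarith
    have hk2 : 2 ≤ k := by
      by_contra h
      have : k ≤ 1 := by omega
      have := Nat.pow_le_pow_right (show 0 < 2 by norm_num) this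
      omega
    have h1 : 4 ∣ q ^ 2 + 1 := by
      rw [hk]
      exact pow_dvd_pow 2 hk2
    have h2 : q % 4 = 0 ∨ q % 4 = 1 ∨ q % 4 = 2 ∨ q % 4 = 3 := by omega
    have h3 : (q ^ 2 + 1) % 4 = 0 := Nat.mod_eq_zero_of_dvd h1
    rcases h2 with h | h | h | h <;> simp [Nat.add_mod, Nat.pow_mod, h] at h3
  · refine ⟨l, hl, ?_, hd⟩
    rintro rfl
    exact absurd ho (by decide)

theorem center_sq {F V : Type*} [Field F] [AddCommGroup V] [Module F V] {Q : QuadraticForm F V} (hG : Good Q)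
    (z : ↥(E Q)) (hz : z ∈ Subgroup.center ↥(E Q)) : z * z = 1 := by
  obtain ⟨c, hc⟩ := center_scalar hG hz
  obtain ⟨x, y, hxy⟩ := hG.exists_hyp
  have hv : Q (x + y) = 1 := by
    rw [Q_add, hxy.left, hxy.right, hxy.pair]
    ring
  have h1 : c * c = 1 := by
    have h2 := E_le_O z.2 (x + y)
    rw [hc, QuadraticMap.map_smul, hv, smul_eq_mul, mul_one] at h2
    exact h2
  apply Subtype.ext
  ext v
  change z.1 (z.1 v) = v
  rw [hc, hc, smul_smul, h1, one_smul]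

/-- **`p ∣ q² - 1`** -/
theorem main_two {F : Type} [Field F] [Fintype F] {p : ℕ} [Fact p.Prime] (h357 : p = 3 ∨ p = 5 ∨ p = 7)
    (hp : p ∣ Fintype.card F ^ 2 - 1) (hpF : (p : F) ≠ 0)
    (hX : ¬ HasNormalPComplement p (P (LieClassical.QuadForms.plusForm 4 F))) :
    KRow.{u, 0} p (P (LieClassical.QuadForms.plusForm 4 F)) := by
  have hpp : p.Prime := Fact.out
  have hp2 : p ≠ 2 := by omega
  have hodd : Odd p := hpp.odd_of_ne_two hp2
  -- the element of order `p`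
  obtain ⟨g, hg⟩ := exists_prime_orderOf_dvd_card' (G := Matrix.SpecialLinearGroup (Fin 2) F) p (by
    rw [Cfsg.Agent.ClassicalGeometry.PSL2Basic.card_SL2]; exact Dvd.dvd.mul_left hp _)
  have hgp : g ^ p = 1 := by rw [← hg, pow_orderOf_eq_one]
  have hg1 : g ≠ 1 := by
    rintro rfl
    rw [orderOf_one] at hg
    exact hpp.one_lt.ne hg
  -- the prime `l`
  obtain ⟨l, hl, hl2, hld⟩ := exists_l (Fintype.card F) Fintype.one_lt_card
  have : Fact l.Prime := ⟨hl⟩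
  have hlF : (l : F) ≠ 0 := by
    obtain ⟨r, hch⟩ := CharP.exists F
    obtain ⟨n, hr, hc⟩ := FiniteField.card F r
    intro h0
    rw [CharP.cast_eq_zero_iff F r] at h0
    have h1 : r = l := (Nat.prime_dvd_prime_iff_eq hr hl).1 h0
    have h2 : l ∣ Fintype.card F ^ 2 := by
      rw [hc, h1, ← pow_mul]
      exact dvd_pow_self l (by have := n.pos; omega)
    exact hl.one_lt.ne' (Nat.dvd_one.1 ((Nat.dvd_add_right h2).1 hld))
  obtain ⟨hord, -⟩ := ordd_four hl2 hld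
  have hord' : Ordd l (Nat.card F) 4 := by rw [Nat.card_eq_fintype_card]; exact hord
  -- the model
  obtain ⟨ψ, hψ⟩ := exists_psi (qW g) (nondeg_qW g (nondeg_bl g hp2 hgp hg1 hpF)) finrank_WW (pl_qW g)
  rw [Cfsg.Agent.AutOrth.Main.plusForm_eq] at hψ
  have hG : Good (LieClassical.QuadForms.plusForm 4 F) := Cfsg.Agent.AutOrth.Main.good_plus (by norm_num)
  have hfinV : Finite ((Fin 4 ⊕ Fin 4 → F) ≃ₗ[F] (Fin 4 ⊕ Fin 4 → F)) :=
    Finite.of_injective (fun g : (Fin 4 ⊕ Fin 4 → F) ≃ₗ[F] (Fin 4 ⊕ Fin 4 → F) =>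
      (g : (Fin 4 ⊕ Fin 4 → F) → (Fin 4 ⊕ Fin 4 → F))) DFunLike.coe_injective
  set Q := LieClassical.QuadForms.plusForm 4 F with hQdef
  have hO : ∀ f : (Fin 4 → (Fin 2 → F)) ≃ₗ[F] (Fin 4 → (Fin 2 → F)), (∀ w, qW g (f w) = qW g w) → cj ψ f ∈ O Q := by
    intro f hf v
    obtain ⟨w, rfl⟩ := ψ.surjective v
    rw [cj_apply, hψ, hψ, hf]
  have hOodd : ∀ f : (Fin 4 → (Fin 2 → F)) ≃ₗ[F] (Fin 4 → (Fin 2 → F)), (∀ w, qW g (f w) = qW g w) →
      ∀ n : ℕ, Odd n → f ^ n = 1 → cj ψ f ∈ E Q := fun f hf n hn h =>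
    mem_E_of_odd hG (hO f hf) hn (by rw [← map_pow, h, map_one])
  have hmc : ∀ a h : (Fin 4 → (Fin 2 → F)) ≃ₗ[F] (Fin 4 → (Fin 2 → F)), (∀ w, qW g (a w) = qW g w) →
      (∀ w, qW g (h w) = qW g w) → cj ψ (a * (h * a * h⁻¹)) ∈ E Q := by
    intro a h ha hh
    rw [map_mul, map_mul, map_mul, map_inv]
    exact mul_conj_mem_E hG (hO a ha) (hO h hh)
  obtain ⟨r, hr1, hr2, hr3⟩ := exists_rr g
  have hdz : ∀ f : Fin 4 → ℕ, cj ψ (dz g f) ∈ E Q := fun f => hOodd _ (qW_dz g f) p hodd (dz_pow g hgp f)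
  -- elements of `E Q`
  let D : (Fin 4 → ℕ) → ↥(E Q) := fun f => ⟨cj ψ (dz g f), hdz f⟩
  have hcr : ∀ i j : Fin 4, cj ψ (cr r i j) ∈ E Q := fun i j => hmc _ _ (qW_ar g hr3 i) (qW_pm g _)
  let C : Fin 4 → Fin 4 → ↥(E Q) := fun i j => ⟨cj ψ (cr r i j), hcr i j⟩
  have hDp : ∀ f, D f ^ p = 1 := fun f => Subtype.ext (by
    change cj ψ (dz g f) ^ p = 1
    rw [← map_pow, dz_pow g hgp, map_one])
  have hD1 : ∀ (f : Fin 4 → ℕ) (i : Fin 4), 0 < f i → f i < p → D f ≠ 1 := fun f i h0 h1 h => by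
    have h2 : cj ψ (dz g f) = 1 := congrArg Subtype.val h
    exact dz_ne_one g hgp hg1 hpF f h0 h1 (cj_injective ψ (by rw [h2, map_one]))
  have hDc : ∀ f f', D f * D f' = D f' * D f := fun f f' => Subtype.ext (by
    change cj ψ (dz g f) * cj ψ (dz g f') = cj ψ (dz g f') * cj ψ (dz g f)
    rw [← map_mul, dz_comm, map_mul])
  have hCc : ∀ (i j : Fin 4) (f : Fin 4 → ℕ), i ≠ j → f i = 0 → f j = 0 → C i j * D f = D f * C i j :=
    fun i j f hij hi hj => Subtype.ext (by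
      change cj ψ (cr r i j) * cj ψ (dz g f) = cj ψ (dz g f) * cj ψ (cr r i j)
      rw [← map_mul, cr_comm g r hij f hi hj, map_mul])
  have hCi : ∀ (i j : Fin 4) (f : Fin 4 → ℕ), i ≠ j → f i = 1 → (∀ k, k ≠ i → f k = 0) →
      C i j * D f = (D f)⁻¹ * C i j := fun i j f hij hi h0 => Subtype.ext (by
      change cj ψ (cr r i j) * cj ψ (dz g f) = (cj ψ (dz g f))⁻¹ * cj ψ (cr r i j)
      rw [← map_mul, cr_inv g hr2 hij f hi h0, map_mul, map_inv])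
  have hp3 : 3 ≤ p := by omega
  -- non-conjugacy
  have hnc : 5 ≤ p → ∀ f : Fin 4 → ℕ, (∃ i, f i = 1) → (∀ i, f i = 0 ∨ f i = 1) → ¬ IsConj (D f) (D f ^ 2) := by
    rintro h5 f ⟨i, hi⟩ hf hcon
    obtain ⟨c, hc⟩ := isConj_iff.1 hcon
    have hc' : (c : (Fin 4 ⊕ Fin 4 → F) ≃ₗ[F] (Fin 4 ⊕ Fin 4 → F)) * cj ψ (dz g f) *
        (c : (Fin 4 ⊕ Fin 4 → F) ≃ₗ[F] (Fin 4 ⊕ Fin 4 → F))⁻¹ = cj ψ (dz g fun i => 2 * f i) := by
      have h1 := congrArg Subtype.val hc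
      have h2 : ((D f ^ 2 : ↥(E Q)) : (Fin 4 ⊕ Fin 4 → F) ≃ₗ[F] (Fin 4 ⊕ Fin 4 → F)) = cj ψ (dz g fun i => 2 * f i) := by
        rw [Subgroup.coe_pow]
        change cj ψ (dz g f) ^ 2 = _
        rw [← map_pow]
        congr 1
        ext1 w
        funext k
        rw [dz_pow_apply, dz_apply, ← pow_mul, mul_comm]
      rw [← h2]
      exact h1
    have h1 : Ev (cj ψ (dz g f)) (tr g 1) := (ev_dz g ψ _ _).2 ⟨i, by rw [hi]⟩
    obtain ⟨j, hj⟩ := (ev_dz g ψ _ _).1 (h1.conj hc')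
    rcases hf j with h2 | h2
    · have h3 := tr_inj hgp hg1 hpF (k := 1) (l := 2 * f j) (by omega) (by omega) hj
      omega
    · have h3 := tr_inj hgp hg1 hpF (k := 1) (l := 2 * f j) (by omega) (by omega) hj
      omega
  -- the element of order `l`
  obtain ⟨t, ht1, ht2, ht3, ht4⟩ := ell_one hl2 hld hp2 hgp hg1 hpF
  have hlo : Odd l := hl.odd_of_ne_two hl2
  -- the third element
  have hthird : ∃ x3 : ↥(E Q), (p = 3 ∧ orderOf x3 = 9) ∨
      (x3 ^ p = 1 ∧ x3 ≠ 1 ∧ IsConj x3 (x3 ^ 2) ∧ ¬ IsConj (D ![1, 0, 0, 0]) (D ![1, 0, 0, 0] ^ 2) ∧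
        ¬ IsConj (D ![1, 1, 0, 0]) (D ![1, 1, 0, 0] ^ 2)) := by
    have hsq : ∀ f : Fin 4 → ℕ, (D f ^ 2 : ↥(E Q)).1 = cj ψ ((dz g f) ^ 2) := fun f => by
      rw [Subgroup.coe_pow, map_pow]
    rcases h357 with rfl | rfl | rfl
    · have hn3 : nine g ^ 3 = dz g ![1, 1, 1, 0] := nine_cube g
      have hn9 : nine g ^ 9 = 1 := by
        rw [show 9 = 3 * 3 from rfl, pow_mul, hn3, dz_pow g hgp]
      have hnq : ∀ w, qW g (nine g w) = qW g w := by
        intro w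
        change qW g (dz g ![1, 0, 0, 0] ((pm tau)⁻¹ w)) = qW g w
        rw [qW_dz]
        have h1 := qW_pm g tau ((pm tau)⁻¹ w)
        have h2 : pm tau ((pm tau)⁻¹ w) = w := (pm tau).apply_symm_apply w
        rw [h2] at h1
        exact h1.symm
      have hmem : cj ψ (nine g) ∈ E Q := hOodd _ hnq 9 (by decide) hn9
      refine ⟨⟨cj ψ (nine g), hmem⟩, Or.inl ⟨rfl, ?_⟩⟩
      refine Eq.trans (b := 3 ^ (1 + 1)) (orderOf_eq_prime_pow ?_ ?_) rfl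
      · intro h
        have h1 : cj ψ (nine g) ^ 3 = 1 := congrArg Subtype.val h
        rw [← map_pow, hn3] at h1
        exact dz_ne_one g hgp hg1 hpF ![1, 1, 1, 0] (i := 0) (by decide) (by decide)
          (cj_injective ψ (by rw [h1, map_one]))
      · apply Subtype.ext
        change cj ψ (nine g) ^ 9 = 1
        rw [← map_pow, hn9, map_one]
    · refine ⟨D ![1, 2, 0, 0], Or.inr ⟨hDp _, hD1 _ 0 (by decide) (by decide), ?_,
        hnc (by norm_num) _ ⟨0, rfl⟩ (by decide), hnc (by norm_num) _ ⟨0, rfl⟩ (by decide)⟩⟩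
      have hbq : ∀ w, qW g (bb r w) = qW g w := by
        intro w
        change qW g (ar r 1 (pm (Equiv.swap 0 1) w)) = qW g w
        rw [qW_ar g hr3, qW_pm]
      rw [isConj_iff]
      refine ⟨⟨cj ψ (hh r), hmc _ _ hbq (qW_pm g _)⟩, Subtype.ext ?_⟩
      rw [hsq]
      change cj ψ (hh r) * cj ψ (dz g ![1, 2, 0, 0]) * (cj ψ (hh r))⁻¹ = _
      rw [← conj_five g hgp hr2, map_mul, map_mul, map_inv]
    · refine ⟨D ![1, 2, 4, 0], Or.inr ⟨hDp _, hD1 _ 0 (by decide) (by decide), ?_,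
        hnc (by norm_num) _ ⟨0, rfl⟩ (by decide), hnc (by norm_num) _ ⟨0, rfl⟩ (by decide)⟩⟩
      rw [isConj_iff]
      refine ⟨⟨cj ψ (pm tau), hOodd _ (qW_pm g _) 3 (by decide) pm_tau_pow⟩, Subtype.ext ?_⟩
      rw [hsq]
      change cj ψ (pm tau) * cj ψ (dz g ![1, 2, 4, 0]) * (cj ψ (pm tau))⁻¹ = _
      rw [← conj_seven g hgp, map_mul, map_mul, map_inv]
  obtain ⟨x3, hx3⟩ := hthird
  refine krow_center (E := ↥(E Q)) (center_sq hG) hp2 hX (l := l) hlo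
    (x1 := D ![1, 0, 0, 0]) (x2 := D ![1, 1, 0, 0]) (x3 := x3)
    (y1 := D ![0, 1, 0, 0]) (y2 := D ![0, 0, 1, 0]) (c1 := C 1 2) (c2 := C 2 3)
    (hDp _) (hD1 _ 0 (by decide) (by change 1 < p; omega)) (hDp _) (hD1 _ 0 (by decide) (by change 1 < p; omega))
    (hDc _ _) (hCc 1 2 _ (by decide) rfl rfl) (hD1 _ 1 (by decide) (by change 1 < p; omega)) (hDp _)
    (hCi 1 2 _ (by decide) rfl (by decide))
    (hDc _ _) (hCc 2 3 _ (by decide) rfl rfl) (hD1 _ 2 (by decide) (by change 1 < p; omega)) (hDp _)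
    (hCi 2 3 _ (by decide) rfl (by decide)) ?_ ?_ hx3
  · refine ⟨⟨cj ψ t, hOodd t ht1 l hlo ht2⟩, Subtype.ext ?_, Subtype.ext ?_, fun h => ht3 ?_⟩
    · change cj ψ t * cj ψ (dz g ![1, 0, 0, 0]) = cj ψ (dz g ![1, 0, 0, 0]) * cj ψ t
      rw [← map_mul, ht4, map_mul]
    · change cj ψ t ^ l = 1
      rw [← map_pow, ht2, map_one]
    · have h2 : cj ψ t = 1 := congrArg Subtype.val h
      exact cj_injective ψ (by rw [h2, map_one])
  · intro s hs1 hs2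
    obtain ⟨s', hs'⟩ : ∃ s', cj ψ s' = s.1 := ⟨(ψ.trans s.1).trans ψ.symm, by
      ext1 v
      obtain ⟨w, rfl⟩ := ψ.surjective v
      rw [cj_apply]
      exact ψ.apply_symm_apply _⟩
    have h1 : s' = 1 := by
      refine no_ell_two hord' hlF hp2 hgp hg1 hpF (t := s') (fun w => ?_) ?_ ?_
      · have h2 := E_le_O s.2 (ψ w)
        rw [← hs', cj_apply, hψ, hψ] at h2
        exact h2
      · apply cj_injective ψ
        rw [map_pow, hs', map_one]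
        exact congrArg Subtype.val hs2
      · apply cj_injective ψ
        rw [map_mul, map_mul, hs']
        exact congrArg Subtype.val hs1
    apply Subtype.ext
    rw [← hs', h1, map_one]
    rfl

end Cfsg.Agent.H683.K6
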