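import Cfsg.Agent.H683.K6.OTwoMain
import Cfsg.Agent.H436.Names

/-!
# S4876: the rows `PΩ₈⁺(q)`, `p ∣ q² - 1` (helper683)
-/

set_option autoImplicit false
set_option linter.unusedSectionVars false

open Cfsg Cfsg.Agent.LieClassical.OrthTrans Cfsg.Agent.ClassicalGeometry.OrthAut1 Cfsg.Agent.H61.K6
open Cfsg.Agent.H436 Cfsg.Agent.OrdDiv

universe u

namespace Cfsg.Agent.H683.K6

theorem natCast_ne_zero {F : Type*} [Field F] [Fintype F] {p : ℕ} [Fact p.Prime] (h : ¬ p ∣ Fintype.card F) :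
    (p : F) ≠ 0 := by
  obtain ⟨r, hch⟩ := CharP.exists F
  obtain ⟨n, hr, hc⟩ := FiniteField.card F r
  intro h0
  rw [CharP.cast_eq_zero_iff F r] at h0
  have h1 : r = p := (Nat.prime_dvd_prime_iff_eq hr Fact.out).1 h0
  apply h
  rw [hc, h1]
  exact dvd_pow_self p n.pos.ne'

theorem exists_model_P {S : Type u} [Group S] {q : ℕ} (h : IsNamed (.oplus 4 q) S) :
    ∃ (F : Type) (_ : Field F) (_ : Fintype F), Fintype.card F = q ∧
      Nonempty (P (LieClassical.QuadForms.plusForm 4 F) ≃* S) := by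
  obtain ⟨F, hF, hF', hc, he⟩ := h.real
  have he' : Nonempty (S ≃* POmega F (quadFormPlus 4 F)) := he
  rw [← LieClassical.QuadForms.coe_plusForm] at he'
  obtain ⟨e⟩ := he'
  have hG : Good (LieClassical.QuadForms.plusForm 4 F) := Cfsg.Agent.AutOrth.Main.good_plus (by norm_num)
  exact ⟨F, hF, hF', hc, ⟨(e.trans (Cfsg.Agent.AutOrth.Main.pe hG)).symm⟩⟩

theorem krow_oplus_four {S : Type u} [Group S] [Finite S] [IsSimpleGroup S] {p : ℕ} [Fact p.Prime] {q : ℕ}
    (h357 : p = 3 ∨ p = 5 ∨ p = 7) (hnab : ¬ ∀ x y : S, Commute x y) (hp : p ∣ Nat.card S)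
    (h : IsNamed (.oplus 4 q) S) (hq : ¬ p ∣ q) (hd : p ∣ q ^ 2 - 1) : KRow.{u, u} p S := by
  obtain ⟨F, hF, hF', rfl, ⟨e⟩⟩ := exists_model_P h
  have hX : ¬ HasNormalPComplement p S := by
    refine not_compl_of_simple ?_ hp
    push Not at hnab
    exact hnab
  have hfin : Finite (P (LieClassical.QuadForms.plusForm 4 F)) := Finite.of_equiv S e.symm.toEquiv
  exact KRow.congr e (main_two h357 hd (natCast_ne_zero hq) fun h1 =>
    hX (Cfsg.Agent.H634.ZJ.hasNormalPComplement_of_injective e.symm.toMonoidHom e.symm.injective h1))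

end Cfsg.Agent.H683.K6
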