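import Cfsg.Agent.H61.K6.Base
import Cfsg.Agent.H166.K6.Fus

/-!
# S4876: three classes in a quotient by a centre of exponent two (helper683)
-/

set_option autoImplicit false

open Cfsg Subgroup Cfsg.Agent.H61.K6

universe u v

namespace Cfsg.Agent.H683.K6

/-- Three elements of weights `2, 2, ≥ 1` told apart by two invariants. -/
theorem krow_three {p : ℕ} {X : Type v} [Group X] [Finite X] (hX : ¬ HasNormalPComplement p X)
    {x1 x2 x3 : X} (e1 : El p x1) (e2 : El p x2) (e3 : El p x3) (I J : X → Prop)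
    (hI : ∀ (σ : X ≃* X) (x : X), I x → I (σ x)) (hJ : ∀ (σ : X ≃* X) (x : X), J x → J (σ x))
    (i1 : I x1) (i2 : ¬ I x2) (j3 : J x3) (j1 : ¬ J x1) (j2 : ¬ J x2)
    (w1 : wt p x1 = 2) (w2 : wt p x2 = 2) : KRow.{u, v} p X := by
  classical
  have h12 : x1 ≠ x2 := by rintro rfl; exact i2 i1
  have h13 : x1 ≠ x3 := by rintro rfl; exact j1 j3
  have h23 : x2 ≠ x3 := by rintro rfl; exact j2 j3
  have hI' : ∀ (σ : X ≃* X) (x : X), I (σ x) → I x := fun σ x h => by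
    have := hI σ.symm _ h
    rwa [σ.symm_apply_apply] at this
  have hJ' : ∀ (σ : X ≃* X) (x : X), J (σ x) → J x := fun σ x h => by
    have := hJ σ.symm _ h
    rwa [σ.symm_apply_apply] at this
  refine KRow.of_wt hX {x1, x2, x3} ?_ ?_ ?_
  · intro x hx
    simp only [Finset.mem_insert, Finset.mem_singleton] at hx
    rcases hx with rfl | rfl | rfl
    · exact e1
    · exact e2
    · exact e3
  · intro x hx y hy σ hσ
    simp only [Finset.mem_insert, Finset.mem_singleton] at hx hy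
    rcases hx with rfl | rfl | rfl <;> rcases hy with rfl | rfl | rfl
    · rfl
    · exact absurd (hσ ▸ hI σ _ i1) i2
    · exact absurd (hJ' σ _ (by rw [hσ]; exact j3)) j1
    · exact absurd (hI' σ _ (by rw [hσ]; exact i1)) i2
    · rfl
    · exact absurd (hJ' σ _ (by rw [hσ]; exact j3)) j2
    · exact absurd (hσ ▸ hJ σ _ j3) j1
    · exact absurd (hσ ▸ hJ σ _ j3) j2
    · rfl
  · have h3 := one_le_wt (p := p) x3
    rw [Finset.sum_insert (by simp [h12, h13]), Finset.sum_insert (by simp [h23]), Finset.sum_singleton, w1, w2]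
    omega

section Center

variable {E : Type v} [Group E] (hZ : ∀ z ∈ center E, z * z = 1)

include hZ

theorem odd_center {z : E} (hz : z ∈ center E) {n : ℕ} (hn : Odd n) (h : z ^ n = 1) : z = 1 := by
  obtain ⟨k, rfl⟩ := hn
  rw [pow_succ, pow_mul, pow_two, hZ z hz, one_pow, one_mul] at h
  exact h

theorem mk_eq_one {x : E} {n : ℕ} (hn : Odd n) (hx : x ^ n = 1) (h : (x : E ⧸ center E) = 1) : x = 1 :=
  odd_center hZ ((QuotientGroup.eq_one_iff x).1 h) hn hx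

theorem pow_eq_one_of_mk {x : E} {n m : ℕ} (hn : Odd n) (hx : x ^ n = 1) (h : (x : E ⧸ center E) ^ m = 1) :
    x ^ m = 1 := by
  refine mk_eq_one hZ hn ?_ (by rw [QuotientGroup.mk_pow]; exact h)
  rw [← pow_mul, mul_comm, pow_mul, hx, one_pow]

theorem orderOf_mk {x : E} {n : ℕ} (hn : Odd n) (hx : x ^ n = 1) : orderOf (x : E ⧸ center E) = orderOf x := by
  apply Nat.dvd_antisymm
  · exact orderOf_map_dvd (QuotientGroup.mk' (center E)) x
  · exact orderOf_dvd_of_pow_eq_one (pow_eq_one_of_mk hZ hn hx (pow_orderOf_eq_one _))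

theorem conj_of_mk {x y c : E} {n : ℕ} (hn : Odd n) (hx : x ^ n = 1) (hy : y ^ n = 1)
    (h : (c : E ⧸ center E) * x * (c : E ⧸ center E)⁻¹ = y) : c * x * c⁻¹ = y := by
  have h1 : ((y⁻¹ * (c * x * c⁻¹) : E) : E ⧸ center E) = 1 := by
    rw [QuotientGroup.mk_mul, QuotientGroup.mk_mul, QuotientGroup.mk_mul, QuotientGroup.mk_inv, QuotientGroup.mk_inv,
      h, inv_mul_cancel]
  have h2 : y⁻¹ * (c * x * c⁻¹) ∈ center E := (QuotientGroup.eq_one_iff _).1 h1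
  set z := y⁻¹ * (c * x * c⁻¹) with hz
  have h3 : c * x * c⁻¹ = y * z := by rw [hz]; group
  have hc : Commute y z := (mem_center_iff.1 h2 y)
  have h4 : z ^ n = 1 := by
    have h5 : (c * x * c⁻¹) ^ n = 1 := by rw [conj_pow, hx, mul_one, mul_inv_cancel]
    rw [h3, hc.mul_pow, hy, one_mul] at h5
    exact h5
  rw [h3, odd_center hZ h2 hn h4, mul_one]

theorem comm_of_mk {x y : E} {n : ℕ} (hn : Odd n) (hx : x ^ n = 1)
    (h : (y : E ⧸ center E) * x = x * y) : y * x = x * y := by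
  have h1 := conj_of_mk hZ (c := y) hn hx hx (by rw [h, mul_inv_cancel_right])
  rw [← h1, inv_mul_cancel_right, h1]

theorem exists_lift {y : E ⧸ center E} {n : ℕ} (hn : Odd n) (hy : y ^ n = 1) :
    ∃ t : E, (t : E ⧸ center E) = y ∧ t ^ n = 1 := by
  obtain ⟨t, rfl⟩ := QuotientGroup.mk_surjective y
  rw [← QuotientGroup.mk_pow] at hy
  have h1 : t ^ n ∈ center E := (QuotientGroup.eq_one_iff _).1 hy
  have h2 := hZ _ h1
  obtain ⟨k, hk⟩ := hn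
  refine ⟨t ^ (n + 1), ?_, ?_⟩
  · rw [QuotientGroup.mk_pow, pow_succ, ← QuotientGroup.mk_pow, hy, one_mul]
  · rw [← pow_mul, mul_comm, pow_mul, show n + 1 = 2 * (k + 1) by omega, pow_mul, pow_two, h2, one_pow]

/-- the first invariant -/
theorem inv_I {l : ℕ} (hl : Odd l) {x : E} {n : ℕ} (hn : Odd n) (hx : x ^ n = 1) :
    (∃ y : E ⧸ center E, y * x = x * y ∧ y ^ l = 1 ∧ y ≠ 1) ↔ ∃ t : E, t * x = x * t ∧ t ^ l = 1 ∧ t ≠ 1 := by
  constructor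
  · rintro ⟨y, h1, h2, h3⟩
    obtain ⟨t, rfl, ht⟩ := exists_lift hZ hl h2
    refine ⟨t, comm_of_mk hZ hn hx h1, ht, ?_⟩
    rintro rfl
    exact h3 rfl
  · rintro ⟨t, h1, h2, h3⟩
    refine ⟨t, ?_, ?_, fun h => h3 (mk_eq_one hZ hl h2 h)⟩
    · rw [← QuotientGroup.mk_mul, h1, QuotientGroup.mk_mul]
    · rw [← QuotientGroup.mk_pow, h2]; rfl

theorem inv_J {x : E} {n : ℕ} (hn : Odd n) (hx : x ^ n = 1) :
    IsConj (x : E ⧸ center E) ((x : E ⧸ center E) ^ 2) ↔ IsConj x (x ^ 2) := by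
  rw [isConj_iff, isConj_iff]
  constructor
  · rintro ⟨c, hc⟩
    obtain ⟨c, rfl⟩ := QuotientGroup.mk_surjective c
    refine ⟨c, conj_of_mk hZ hn hx (by rw [← pow_mul, mul_comm, pow_mul, hx, one_pow]) ?_⟩
    rw [hc, QuotientGroup.mk_pow]
  · rintro ⟨c, hc⟩
    refine ⟨c, ?_⟩
    rw [← QuotientGroup.mk_mul, ← QuotientGroup.mk_inv, ← QuotientGroup.mk_mul, hc, QuotientGroup.mk_pow]

theorem wt_mk [Finite E] {p : ℕ} [Fact p.Prime] (hp2 : p ≠ 2) {x y c : E} (hyx : y * x = x * y)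
    (hcx : c * x = x * c) (hy1 : y ≠ 1) (hyp : y ^ p = 1) (hc : c * y = y⁻¹ * c) :
    wt p (x : E ⧸ center E) = 2 := by
  have hodd : Odd p := (Fact.out : p.Prime).odd_of_ne_two hp2
  refine Cfsg.Agent.H166.K6.wt_two_of_inv hp2 (y := (y : E ⧸ center E)) (c := (c : E ⧸ center E)) ?_ ?_ ?_ ?_ ?_
  · rw [← QuotientGroup.mk_mul, hyx, QuotientGroup.mk_mul]
  · rw [← QuotientGroup.mk_mul, hcx, QuotientGroup.mk_mul]
  · exact fun h => hy1 (mk_eq_one hZ hodd hyp h)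
  · rw [← QuotientGroup.mk_pow, hyp]; rfl
  · rw [← QuotientGroup.mk_mul, hc, QuotientGroup.mk_mul, QuotientGroup.mk_inv]

/-- **three classes in the quotient by the centre** -/
theorem krow_center [Finite E] {p : ℕ} [Fact p.Prime] (hp2 : p ≠ 2)
    (hX : ¬ HasNormalPComplement p (E ⧸ center E)) {l : ℕ} (hl : Odd l) {x1 x2 x3 y1 y2 c1 c2 : E}
    (h1 : x1 ^ p = 1) (h1' : x1 ≠ 1) (h2 : x2 ^ p = 1) (h2' : x2 ≠ 1)
    (a1 : y1 * x1 = x1 * y1) (b1 : c1 * x1 = x1 * c1) (d1 : y1 ≠ 1) (f1 : y1 ^ p = 1) (g1 : c1 * y1 = y1⁻¹ * c1)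
    (a2 : y2 * x2 = x2 * y2) (b2 : c2 * x2 = x2 * c2) (d2 : y2 ≠ 1) (f2 : y2 ^ p = 1) (g2 : c2 * y2 = y2⁻¹ * c2)
    (t1 : ∃ t : E, t * x1 = x1 * t ∧ t ^ l = 1 ∧ t ≠ 1)
    (t2 : ∀ t : E, t * x2 = x2 * t → t ^ l = 1 → t = 1)
    (h3 : (p = 3 ∧ orderOf x3 = 9) ∨
      (x3 ^ p = 1 ∧ x3 ≠ 1 ∧ IsConj x3 (x3 ^ 2) ∧ ¬ IsConj x1 (x1 ^ 2) ∧ ¬ IsConj x2 (x2 ^ 2))) :
    KRow.{u, v} p (E ⧸ center E) := by
  have hp : p.Prime := Fact.out
  have hodd : Odd p := hp.odd_of_ne_two hp2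
  have hel : ∀ x : E, x ^ p = 1 → x ≠ 1 → El p (x : E ⧸ center E) := by
    intro x hx hx1
    refine ⟨⟨1, ?_⟩, fun h => hx1 (mk_eq_one hZ hodd hx h)⟩
    rw [orderOf_mk hZ hodd hx, pow_one]
    exact orderOf_eq_prime hx hx1
  have hI : ∀ (σ : (E ⧸ center E) ≃* (E ⧸ center E)) (x : E ⧸ center E),
      (∃ y : E ⧸ center E, y * x = x * y ∧ y ^ l = 1 ∧ y ≠ 1) →
        ∃ y : E ⧸ center E, y * σ x = σ x * y ∧ y ^ l = 1 ∧ y ≠ 1 := by
    rintro σ x ⟨y, k1, k2, k3⟩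
    refine ⟨σ y, ?_, ?_, ?_⟩
    · rw [← map_mul, k1, map_mul]
    · rw [← map_pow, k2, map_one]
    · exact fun h => k3 ((map_eq_one_iff σ σ.injective).1 h)
  have i1 := (inv_I hZ hl hodd h1).2 t1
  have i2 : ¬ ∃ y : E ⧸ center E, y * x2 = x2 * y ∧ y ^ l = 1 ∧ y ≠ 1 := by
    intro h
    obtain ⟨t, k1, k2, k3⟩ := (inv_I hZ hl hodd h2).1 h
    exact k3 (t2 t k1 k2)
  have w1 := wt_mk hZ hp2 a1 b1 d1 f1 g1
  have w2 := wt_mk hZ hp2 a2 b2 d2 f2 g2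
  rcases h3 with ⟨rfl, h9⟩ | ⟨k1, k2, k3, k4, k5⟩
  · have h9' : x3 ^ 9 = 1 := by rw [← h9, pow_orderOf_eq_one]
    have ho : orderOf (x3 : E ⧸ center E) = 9 := by rw [orderOf_mk hZ (by decide : Odd 9) h9', h9]
    refine krow_three hX (hel x1 h1 h1') (hel x2 h2 h2') (x3 := (x3 : E ⧸ center E)) ⟨⟨2, by rw [ho]; norm_num⟩, ?_⟩
      (fun x => ∃ y : E ⧸ center E, y * x = x * y ∧ y ^ l = 1 ∧ y ≠ 1) (fun x => orderOf x = 9) hI
      (fun σ x h => by rw [MulEquiv.orderOf_eq]; exact h) i1 i2 ho ?_ ?_ w1 w2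
    · intro h
      rw [h, orderOf_one] at ho
      norm_num at ho
    · intro h
      rw [orderOf_mk hZ hodd h1, orderOf_eq_prime h1 h1'] at h
      norm_num at h
    · intro h
      rw [orderOf_mk hZ hodd h2, orderOf_eq_prime h2 h2'] at h
      norm_num at h
  · refine krow_three hX (hel x1 h1 h1') (hel x2 h2 h2') (hel x3 k1 k2)
      (fun x => ∃ y : E ⧸ center E, y * x = x * y ∧ y ^ l = 1 ∧ y ≠ 1) (fun x => IsConj x (x ^ 2)) hI
      (fun σ x h => ?_) i1 i2 ((inv_J hZ hodd k1).2 k3) (fun h => k4 ((inv_J hZ hodd h1).1 h))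
      (fun h => k5 ((inv_J hZ hodd h2).1 h)) w1 w2
    rw [isConj_iff] at h ⊢
    obtain ⟨c, hc⟩ := h
    exact ⟨σ c, by rw [← map_pow, ← hc, map_mul, map_mul, map_inv]⟩

end Center

end Cfsg.Agent.H683.K6
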