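import Cfsg.Agent.H683.K6.Plane
import Cfsg.Agent.H683.K6.Three

/-!
# `PΩ₈⁺(q)`, `p ∣ q² - 1`: the maps on four planes (helper683, S4876)
-/

set_option autoImplicit false
set_option linter.unusedSectionVars false

open QuadraticMap Module Cfsg.Agent.LieClassical.OrthCore Cfsg.Agent.LieClassical.OrthTrans
open Cfsg.Agent.H587.KB8 Cfsg.Agent.H932
open Cfsg.Agent.H200.LinFix (Ordd)

namespace Cfsg.Agent.H683.K6

section good

variable {F V : Type*} [Field F] [AddCommGroup V] [Module F V] [FiniteDimensional F V] {Q : QuadraticForm F V}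

open scoped commutatorElement in
theorem mul_conj_mem_E (hG : Good Q) {a h : V ≃ₗ[F] V} (ha : a ∈ O Q) (hh : h ∈ O Q) : a * (h * a * h⁻¹) ∈ E Q := by
  have h1 : ⁅a⁻¹, h⁆ ∈ E Q :=
    hG.commutator_le_E (Subgroup.commutator_mem_commutator ((O Q).inv_mem ha) hh)
  have h2 : a * (h * a * h⁻¹) = a * a * ⁅a⁻¹, h⁆ := by
    rw [commutatorElement_def]
    group
  rw [h2]
  exact (E Q).mul_mem (sq_mem_E hG ha) h1

end good

section W

variable {F : Type} [Field F] (g : Matrix.SpecialLinearGroup (Fin 2) F)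

/-- a permutation of the planes -/
def pm (σ : Equiv.Perm (Fin 4)) : (Fin 4 → (Fin 2 → F)) ≃ₗ[F] (Fin 4 → (Fin 2 → F)) :=
  LinearEquiv.funCongrLeft F (Fin 2 → F) σ

theorem pm_apply (σ : Equiv.Perm (Fin 4)) (w : Fin 4 → (Fin 2 → F)) (k : Fin 4) : pm σ w k = w (σ k) := rfl

theorem pm_inv_apply (σ : Equiv.Perm (Fin 4)) (w : Fin 4 → (Fin 2 → F)) (k : Fin 4) :
    (pm σ)⁻¹ w k = w (σ⁻¹ k) := rfl

theorem qW_pm (σ : Equiv.Perm (Fin 4)) (w : Fin 4 → (Fin 2 → F)) : qW g (pm σ w) = qW g w := by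
  rw [qW_apply, qW_apply]
  exact Equiv.sum_comp σ fun i => (bl g).toQuadraticMap (w i)

/-- `r` on the plane `i` -/
def ar (r : (Fin 2 → F) ≃ₗ[F] (Fin 2 → F)) (i : Fin 4) : (Fin 4 → (Fin 2 → F)) ≃ₗ[F] (Fin 4 → (Fin 2 → F)) :=
  LinearEquiv.piCongrRight fun k => if k = i then r else LinearEquiv.refl F _

theorem ar_apply (r : (Fin 2 → F) ≃ₗ[F] (Fin 2 → F)) (i : Fin 4) (w : Fin 4 → (Fin 2 → F)) (k : Fin 4) :
    ar r i w k = if k = i then r (w k) else w k := by
  change (if k = i then r else LinearEquiv.refl F (Fin 2 → F)) (w k) = _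
  split_ifs <;> rfl

theorem qW_ar {r : (Fin 2 → F) ≃ₗ[F] (Fin 2 → F)} (hr : ∀ v, bl g (r v) (r v) = bl g v v) (i : Fin 4)
    (w : Fin 4 → (Fin 2 → F)) : qW g (ar r i w) = qW g w := by
  rw [qW_apply, qW_apply]
  refine Finset.sum_congr rfl fun k _ => ?_
  rw [ar_apply, LinearMap.BilinMap.toQuadraticMap_apply, LinearMap.BilinMap.toQuadraticMap_apply]
  split_ifs
  · exact hr _
  · rfl

/-- `r` on the planes `i` and `j` -/
def cr (r : (Fin 2 → F) ≃ₗ[F] (Fin 2 → F)) (i j : Fin 4) : (Fin 4 → (Fin 2 → F)) ≃ₗ[F] (Fin 4 → (Fin 2 → F)) :=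
  ar r i * (pm (Equiv.swap i j) * ar r i * (pm (Equiv.swap i j))⁻¹)

theorem cr_apply (r : (Fin 2 → F) ≃ₗ[F] (Fin 2 → F)) {i j : Fin 4} (hij : i ≠ j) (w : Fin 4 → (Fin 2 → F))
    (k : Fin 4) : cr r i j w k = if k = i ∨ k = j then r (w k) else w k := by
  change ar r i (pm (Equiv.swap i j) (ar r i ((pm (Equiv.swap i j))⁻¹ w))) k = _
  rw [ar_apply, pm_apply, ar_apply, pm_inv_apply, Equiv.swap_inv, Equiv.swap_apply_self]
  have h1 : Equiv.swap i j k = i ↔ k = j := by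
    rw [Equiv.swap_apply_eq_iff, Equiv.swap_apply_left]
  simp only [h1]
  by_cases hi : k = i
  · subst hi
    simp [hij]
  · simp [hi]

theorem cr_comm (r : (Fin 2 → F) ≃ₗ[F] (Fin 2 → F)) {i j : Fin 4} (hij : i ≠ j) (f : Fin 4 → ℕ) (hi : f i = 0)
    (hj : f j = 0) : cr r i j * dz g f = dz g f * cr r i j := by
  ext1 w
  funext k
  change cr r i j (dz g f w) k = dz g f (cr r i j w) k
  rw [cr_apply r hij, dz_apply, dz_apply, cr_apply r hij]
  split_ifs with h
  · have hk : f k = 0 := by rcases h with rfl | rfl <;> assumption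
    rw [hk, pow_zero, map_one]
    rfl
  · rfl

theorem cr_inv {r : (Fin 2 → F) ≃ₗ[F] (Fin 2 → F)}
    (hr : ∀ v, Matrix.SpecialLinearGroup.toLin' g (r (Matrix.SpecialLinearGroup.toLin' g v)) = r v) {i j : Fin 4}
    (hij : i ≠ j) (f : Fin 4 → ℕ) (hi : f i = 1) (h0 : ∀ k, k ≠ i → f k = 0) :
    cr r i j * dz g f = (dz g f)⁻¹ * cr r i j := by
  rw [eq_inv_mul_iff_mul_eq]
  ext1 w
  funext k
  change dz g f (cr r i j (dz g f w)) k = cr r i j w k
  rw [dz_apply, cr_apply r hij, cr_apply r hij, dz_apply]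
  by_cases hk : k = i
  · subst hk
    simp only [true_or, if_true, hi, pow_one, hr]
  · rw [h0 k hk, pow_zero, map_one]
    rfl

theorem dz_comm (f f' : Fin 4 → ℕ) : dz g f * dz g f' = dz g f' * dz g f := by
  ext1 w
  funext k
  change dz g f (dz g f' w) k = dz g f' (dz g f w) k
  rw [dz_apply, dz_apply, dz_apply, dz_apply, ← LinearEquiv.mul_apply, ← LinearEquiv.mul_apply, ← map_mul, ← map_mul,
    ← pow_add, ← pow_add, add_comm]

theorem dz_ne_one {p : ℕ} [Fact p.Prime] (hg : g ^ p = 1) (hg1 : g ≠ 1) (hpF : (p : F) ≠ 0) (f : Fin 4 → ℕ)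
    {i : Fin 4} (h0 : 0 < f i) (hf : f i < p) : dz g f ≠ 1 := by
  intro h
  have h1 := congrFun (DFunLike.congr_fun h (Pi.single i (Pi.single 0 1))) i
  rw [dz_apply] at h1
  change _ = (Pi.single i (Pi.single 0 1) : Fin 4 → (Fin 2 → F)) i at h1
  rw [Pi.single_eq_same] at h1
  have h2 := fix_g hg hg1 hpF h0 hf h1
  have h3 := congrFun h2 0
  rw [Pi.single_eq_same] at h3
  exact one_ne_zero h3

/-- the two planes `2, 3` -/
def jA : (Fin 2 → (Fin 2 → F)) →ₗ[F] (Fin 4 → (Fin 2 → F)) where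
  toFun u := ![0, 0, u 0, u 1]
  map_add' u v := by
    funext i
    fin_cases i
    · exact (add_zero (0 : Fin 2 → F)).symm
    · exact (add_zero (0 : Fin 2 → F)).symm
    · rfl
    · rfl
  map_smul' c u := by
    funext i
    fin_cases i
    · exact (smul_zero c).symm
    · exact (smul_zero c).symm
    · rfl
    · rfl

/-- the two planes `0, 1` -/
def jB : (Fin 2 → (Fin 2 → F)) →ₗ[F] (Fin 4 → (Fin 2 → F)) where
  toFun u := ![u 0, u 1, 0, 0]
  map_add' u v := by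
    funext i
    fin_cases i
    · rfl
    · rfl
    · exact (add_zero (0 : Fin 2 → F)).symm
    · exact (add_zero (0 : Fin 2 → F)).symm
  map_smul' c u := by
    funext i
    fin_cases i
    · rfl
    · rfl
    · exact (smul_zero c).symm
    · exact (smul_zero c).symm

theorem jA_inj : Function.Injective (jA (F := F)) := fun u v h => by
  funext i
  fin_cases i
  · exact congrFun h 2
  · exact congrFun h 3

theorem jB_inj : Function.Injective (jB (F := F)) := fun u v h => by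
  funext i
  fin_cases i
  · exact congrFun h 0
  · exact congrFun h 1

theorem qW_jA (u : Fin 2 → (Fin 2 → F)) : qW g (jA u) = q2 g u := by
  rw [qW_apply, Fin.sum_univ_four, q2_apply]
  change (bl g).toQuadraticMap 0 + (bl g).toQuadraticMap 0 + (bl g).toQuadraticMap (u 0) +
    (bl g).toQuadraticMap (u 1) = _
  rw [QuadraticMap.map_zero, zero_add, zero_add]
  rfl

theorem qW_jB (u : Fin 2 → (Fin 2 → F)) : qW g (jB u) = q2 g u := by
  rw [qW_apply, Fin.sum_univ_four, q2_apply]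
  change (bl g).toQuadraticMap (u 0) + (bl g).toQuadraticMap (u 1) + (bl g).toQuadraticMap 0 +
    (bl g).toQuadraticMap 0 = _
  rw [QuadraticMap.map_zero, add_zero, add_zero]
  rfl

variable {g} {p : ℕ} [Fact p.Prime]

theorem trivial_on [Fintype F] {l : ℕ} [Fact l.Prime] (hd : Ordd l (Nat.card F) 4) (hlF : (l : F) ≠ 0)
    (hp2 : p ≠ 2) (hg : g ^ p = 1) (hg1 : g ≠ 1) (hpF : (p : F) ≠ 0)
    {t : (Fin 4 → (Fin 2 → F)) ≃ₗ[F] (Fin 4 → (Fin 2 → F))} (ht : ∀ w, qW g (t w) = qW g w) (htl : t ^ l = 1)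
    {j : (Fin 2 → (Fin 2 → F)) →ₗ[F] (Fin 4 → (Fin 2 → F))} (hj : Function.Injective j)
    (hq : ∀ u, qW g (j u) = q2 g u) (hinv : ∀ u, t (j u) ∈ LinearMap.range j) (u : Fin 2 → (Fin 2 → F)) :
    t (j u) = j u := by
  let X₀ : (Fin 2 → (Fin 2 → F)) →ₗ[F] (Fin 2 → (Fin 2 → F)) :=
    (LinearEquiv.ofInjective j hj).symm.toLinearMap ∘ₗ
      ((t.toLinearMap ∘ₗ j).codRestrict (LinearMap.range j) hinv)
  have hX₀ : ∀ u, j (X₀ u) = t (j u) := by
    intro u
    have h1 : LinearEquiv.ofInjective j hj (X₀ u) = ⟨t (j u), hinv u⟩ :=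
      (LinearEquiv.ofInjective j hj).apply_symm_apply _
    exact congrArg Subtype.val h1
  have hXi : Function.Injective X₀ := by
    intro a b h
    apply hj
    apply t.injective
    rw [← hX₀, ← hX₀, h]
  let X := LinearEquiv.ofInjectiveEndo X₀ hXi
  have hX : ∀ u, j (X u) = t (j u) := hX₀
  have hXn : ∀ (n : ℕ) (u), j ((X ^ n) u) = (t ^ n) (j u) := by
    intro n
    induction n with
    | zero => intro u; rfl
    | succ n ih =>
      intro u
      rw [pow_succ, pow_succ, LinearEquiv.mul_apply, LinearEquiv.mul_apply, ih, hX]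
  have h1 : X = 1 := by
    refine no_ell hd hlF (Q := q2 g) (nondeg_pi (nondeg_bl g hp2 hg hg1 hpF)) (pl_q2 hp2 hg hg1 hpF) ?_ X ?_ ?_
    · rw [Module.finrank_pi_fintype]
      simp
    · ext1 u
      apply hj
      rw [hXn, htl]
      rfl
    · intro v
      rw [← hq, hX, ht, hq]
  rw [← hX, h1]
  rfl

theorem tr_one_ne (hg : g ^ p = 1) (hg1 : g ≠ 1) (hpF : (p : F) ≠ 0) (hp2 : p ≠ 2) : tr g 1 ≠ 2 := by
  have hp := (Fact.out : p.Prime).two_le
  intro h
  have := tr_inj hg hg1 hpF (k := 1) (l := 0) (by omega) (by omega) (by rw [h, tr_zero])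
  omega

/-- **nothing of order `l` commutes with `(g, g, 1, 1)`** -/
theorem no_ell_two [Fintype F] {l : ℕ} [Fact l.Prime] (hd : Ordd l (Nat.card F) 4) (hlF : (l : F) ≠ 0)
    (hp2 : p ≠ 2) (hg : g ^ p = 1) (hg1 : g ≠ 1) (hpF : (p : F) ≠ 0)
    {t : (Fin 4 → (Fin 2 → F)) ≃ₗ[F] (Fin 4 → (Fin 2 → F))} (ht : ∀ w, qW g (t w) = qW g w) (htl : t ^ l = 1)
    (hc : t * dz g ![1, 1, 0, 0] = dz g ![1, 1, 0, 0] * t) : t = 1 := by
  have hp := (Fact.out : p.Prime).two_le
  have hc' : ∀ w, t (dz g ![1, 1, 0, 0] w) = dz g ![1, 1, 0, 0] (t w) := fun w => DFunLike.congr_fun hc w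
  have hci : t * (dz g ![1, 1, 0, 0])⁻¹ = (dz g ![1, 1, 0, 0])⁻¹ * t := by
    rw [eq_inv_mul_iff_mul_eq, ← mul_assoc, ← hc, mul_inv_cancel_right]
  have hci' : ∀ w, t ((dz g ![1, 1, 0, 0])⁻¹ w) = (dz g ![1, 1, 0, 0])⁻¹ (t w) := fun w => DFunLike.congr_fun hci w
  have hA : ∀ u, t (jA u) = jA u := by
    refine trivial_on hd hlF hp2 hg hg1 hpF ht htl jA_inj (qW_jA g) fun u => ?_
    -- a fixed vector
    have h1 : dz g ![1, 1, 0, 0] (jA u) = jA u := by
      funext k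
      rw [dz_apply]
      fin_cases k
      · change _ = (0 : Fin 2 → F)
        change (Matrix.SpecialLinearGroup.toLin' (g ^ 1)) (0 : Fin 2 → F) = 0
        rw [map_zero]
      · change (Matrix.SpecialLinearGroup.toLin' (g ^ 1)) (0 : Fin 2 → F) = 0
        rw [map_zero]
      · change (Matrix.SpecialLinearGroup.toLin' (g ^ 0)) (u 0) = u 0
        rw [pow_zero, map_one]; rfl
      · change (Matrix.SpecialLinearGroup.toLin' (g ^ 0)) (u 1) = u 1
        rw [pow_zero, map_one]; rfl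
    have h2 : dz g ![1, 1, 0, 0] (t (jA u)) = t (jA u) := by rw [← hc', h1]
    have h3 : t (jA u) 0 = 0 := fix_g hg hg1 hpF (m := 1) (by norm_num) (by omega) (congrFun h2 0)
    have h4 : t (jA u) 1 = 0 := fix_g hg hg1 hpF (m := 1) (by norm_num) (by omega) (congrFun h2 1)
    refine ⟨![t (jA u) 2, t (jA u) 3], ?_⟩
    funext k
    fin_cases k
    · exact h3.symm
    · exact h4.symm
    · rfl
    · rfl
  have hB : ∀ u, t (jB u) = jB u := by
    refine trivial_on hd hlF hp2 hg hg1 hpF ht htl jB_inj (qW_jB g) fun u => ?_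
    have h1 : dz g ![1, 1, 0, 0] (jB u) + (dz g ![1, 1, 0, 0])⁻¹ (jB u) = tr g 1 • jB u := by
      funext k
      rw [Pi.add_apply, Pi.smul_apply, dz_apply, dz_inv_apply, add_inv_pow]
      fin_cases k
      · rfl
      · rfl
      · change tr g 0 • (0 : Fin 2 → F) = tr g 1 • (0 : Fin 2 → F)
        rw [smul_zero, smul_zero]
      · change tr g 0 • (0 : Fin 2 → F) = tr g 1 • (0 : Fin 2 → F)
        rw [smul_zero, smul_zero]
    have h2 : dz g ![1, 1, 0, 0] (t (jB u)) + (dz g ![1, 1, 0, 0])⁻¹ (t (jB u)) = tr g 1 • t (jB u) := by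
      rw [← hc', ← hci', ← map_add, h1, map_smul]
    have h5 : ∀ k : Fin 4, (![1, 1, 0, 0] : Fin 4 → ℕ) k = 0 → t (jB u) k = 0 := by
      intro k hk
      have h6 := congrFun h2 k
      rw [Pi.add_apply, Pi.smul_apply, dz_apply, dz_inv_apply, add_inv_pow, hk] at h6
      by_contra h0
      have h7 : tr g 0 = tr g 1 := smul_left_injective F h0 h6
      exact tr_one_ne hg hg1 hpF hp2 (by rw [← h7, tr_zero])
    refine ⟨![t (jB u) 0, t (jB u) 1], ?_⟩
    funext k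
    fin_cases k
    · rfl
    · rfl
    · exact (h5 2 rfl).symm
    · exact (h5 3 rfl).symm
  ext1 w
  have hw : w = jA ![w 2, w 3] + jB ![w 0, w 1] := by
    funext k
    fin_cases k
    · change w 0 = 0 + w 0
      rw [zero_add]
    · change w 1 = 0 + w 1
      rw [zero_add]
    · change w 2 = w 2 + 0
      rw [add_zero]
    · change w 3 = w 3 + 0
      rw [add_zero]
  rw [hw, map_add, hA, hB]
  rfl

/-- **something of order `l` commutes with `(g, 1, 1, 1)`** -/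
theorem ell_one [Fintype F] {l : ℕ} [Fact l.Prime] (hl2 : l ≠ 2) (hl : l ∣ Fintype.card F ^ 2 + 1) (hp2 : p ≠ 2)
    (hg : g ^ p = 1) (hg1 : g ≠ 1) (hpF : (p : F) ≠ 0) :
    ∃ t : (Fin 4 → (Fin 2 → F)) ≃ₗ[F] (Fin 4 → (Fin 2 → F)), (∀ w, qW g (t w) = qW g w) ∧ t ^ l = 1 ∧ t ≠ 1 ∧
      t * dz g ![1, 0, 0, 0] = dz g ![1, 0, 0, 0] * t := by
  obtain ⟨y, hyO, hyl, hy1⟩ := exists_ell (F := F) hl2 hl
    (Q := (QuadraticMap.pi fun _ : Fin 3 => (bl g).toQuadraticMap)) (nondeg_pi (nondeg_bl g hp2 hg hg1 hpF))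
    (by rw [Module.finrank_pi_fintype]; simp)
  let e : ((Fin 2 → F) × (Fin 3 → (Fin 2 → F))) ≃ₗ[F] (Fin 4 → (Fin 2 → F)) :=
    Fin.consLinearEquiv F (fun _ : Fin 4 => (Fin 2 → F))
  have he0 : ∀ v, e v 0 = v.1 := fun v => rfl
  have hes : ∀ v (k : Fin 3), e v k.succ = v.2 k := fun v k => rfl
  let t₀ : ((Fin 2 → F) × (Fin 3 → (Fin 2 → F))) ≃ₗ[F] ((Fin 2 → F) × (Fin 3 → (Fin 2 → F))) :=
    (LinearEquiv.refl F _).prodCongr y
  have ht₀ : ∀ v, t₀ v = (v.1, y v.2) := fun v => rfl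
  have hpow : ∀ (n : ℕ) v, (t₀ ^ n) v = (v.1, (y ^ n) v.2) := by
    intro n
    induction n with
    | zero => intro v; rfl
    | succ n ih =>
      intro v
      rw [pow_succ, LinearEquiv.mul_apply, ih, ht₀, pow_succ, LinearEquiv.mul_apply]
  refine ⟨cj e t₀, ?_, ?_, ?_, ?_⟩
  · intro w
    obtain ⟨v, rfl⟩ := e.surjective w
    rw [cj_apply, qW_apply, qW_apply, Fin.sum_univ_succ (fun i => (bl g).toQuadraticMap (e (t₀ v) i)),
      Fin.sum_univ_succ (fun i => (bl g).toQuadraticMap (e v i))]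
    have h1 := hyO v.2
    rw [QuadraticMap.pi_apply, QuadraticMap.pi_apply] at h1
    have h2 : ∀ k : Fin 3, e (t₀ v) k.succ = (y v.2) k := fun k => rfl
    have h3 : ∀ k : Fin 3, e v k.succ = v.2 k := fun k => rfl
    have h4 : e (t₀ v) 0 = e v 0 := rfl
    simp only [h2, h3, h4]
    rw [h1]
  · rw [← map_pow]
    have : t₀ ^ l = 1 := by
      ext1 v
      rw [hpow, hyl]
      rfl
    rw [this, map_one]
  · intro h
    apply hy1
    have h1 : t₀ = 1 := cj_injective e (by rw [h, map_one])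
    ext1 v
    have h2 := congrArg Prod.snd (DFunLike.congr_fun h1 ((0 : Fin 2 → F), v))
    exact h2
  · ext1 w
    obtain ⟨v, rfl⟩ := e.surjective w
    change cj e t₀ (dz g ![1, 0, 0, 0] (e v)) = dz g ![1, 0, 0, 0] (cj e t₀ (e v))
    have h1 : dz g ![1, 0, 0, 0] (e v) = e (Matrix.SpecialLinearGroup.toLin' (g ^ 1) v.1, v.2) := by
      funext k
      rw [dz_apply]
      refine Fin.cases ?_ (fun k => ?_) k
      · rfl
      · have h0 : (![1, 0, 0, 0] : Fin 4 → ℕ) k.succ = 0 := by fin_cases k <;> rfl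
        rw [h0, pow_zero, map_one]
        rfl
    have h2 : dz g ![1, 0, 0, 0] (e (t₀ v)) = e (Matrix.SpecialLinearGroup.toLin' (g ^ 1) v.1, y v.2) := by
      funext k
      rw [dz_apply]
      refine Fin.cases ?_ (fun k => ?_) k
      · rfl
      · have h0 : (![1, 0, 0, 0] : Fin 4 → ℕ) k.succ = 0 := by fin_cases k <;> rfl
        rw [h0, pow_zero, map_one]
        rfl
    rw [h1, cj_apply, cj_apply, h2, ht₀]

end W

end Cfsg.Agent.H683.K6
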