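import Cfsg.Agent.H683.K6.TriG
import Cfsg.Agent.H683.K6.Long
import Cfsg.Agent.H683.K6.Three

/-!
# S4876: from `G` to `X` (helper683)

* `TriX`, `krow_of_tri` : `|P| = 25`, three classes of weight two;
* `krow_of_long` : an abelian Sylow subgroup with an element of order `p²`;
* `TriX.mk` : the quotient by a centre of exponent two.
-/

set_option autoImplicit false
set_option linter.unusedSectionVars false

open Cfsg Subgroup Cfsg.Agent.H634 Cfsg.Agent.H508.KB Cfsg.Agent.H61.K6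

universe u v

namespace Cfsg.Agent.H683.K6

/-- the data in `X` -/
structure TriX {X : Type v} [Group X] (A : Subgroup X) (x y h : Fin 3 → X) (u : Fin 5 → X) : Prop where
  card : Nat.card A = 5 ^ 2
  el : ∀ a ∈ A, a ^ 5 = 1
  xA : ∀ i, x i ∈ A
  x1 : ∀ i, x i ≠ 1
  yA : ∀ i, y i ∈ A
  y1 : ∀ i, y i ≠ 1
  hN : ∀ i, ∀ a ∈ A, h i * a * (h i)⁻¹ ∈ A
  hx : ∀ i, h i * x i = x i * h i
  hy : ∀ i, h i * y i = (y i)⁻¹ * h i
  conj : ∀ i j, IsConj (x i) (x j) → i = j
  uA : ∀ i, u i ∈ A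
  u_inj : Function.Injective u
  ux : ∀ i, IsConj (x 0) (u i)
  h4 : h 0 ^ 4 = 1

section sylow

variable {G : Type u} [Group G] [Finite G] {p : ℕ} [hp : Fact p.Prime]

/-- a subgroup of the right order is a Sylow subgroup -/
theorem exists_sylow_eq {B : Subgroup G} {m : ℕ} (hB : Nat.card B = p ^ m) (hG : ¬ p ^ (m + 1) ∣ Nat.card G) :
    ∃ P : Sylow p G, (P : Subgroup G) = B := by
  have h1 : IsPGroup p B := IsPGroup.of_card hB
  obtain ⟨P, hP⟩ := h1.exists_le_sylow
  refine ⟨P, (Subgroup.eq_of_le_of_card_ge hP ?_).symm⟩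
  obtain ⟨k, hk⟩ := P.2.exists_card_eq
  have hk' : Nat.card (P : Subgroup G) = p ^ k := hk
  have hkm : k ≤ m := by
    by_contra hcon
    push Not at hcon
    apply hG
    refine (pow_dvd_pow p hcon).trans ?_
    rw [← hk']
    exact Subgroup.card_subgroup_dvd_card _
  rw [hk', hB]
  exact Nat.pow_le_pow_right hp.out.pos hkm

theorem not_dvd_sit {M : Ideal AlgInt} {K : Subgroup G} {X : Type v} [Group X] (hS : Sit p M G K X) {m : ℕ}
    (h : ¬ p ^ m ∣ Nat.card X) : ¬ p ^ m ∣ Nat.card G := by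
  intro h1
  obtain ⟨f⟩ := hS.iso
  rw [← K.card_mul_index, ← Nat.card_congr f.toEquiv] at h1
  exact h ((Nat.Coprime.pow_left m ((Nat.Prime.coprime_iff_not_dvd hS.prime).2 hS.ndvd)).dvd_of_dvd_mul_right h1)

theorem mem_normalizer_of_conj {P : Subgroup G} {c : G} (h : ∀ a ∈ P, c * a * c⁻¹ ∈ P) :
    c ∈ normalizer (P : Set G) := by
  have h2 : P.map (MulAut.conj c).toMonoidHom = P := by
    apply Subgroup.eq_of_le_of_card_ge
    · rintro _ ⟨z, hz, rfl⟩
      exact h z hz
    · exact (Nat.card_congr (P.equivMapOfInjective _ (MulAut.conj c).injective).toEquiv).le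
  rw [mem_normalizer_iff]
  intro z
  constructor
  · exact h z
  · intro hz
    have h3 : c * z * c⁻¹ ∈ P.map (MulAut.conj c).toMonoidHom := by rw [h2]; exact hz
    obtain ⟨w, hw, hwz⟩ := h3
    have h4 : c * w * c⁻¹ = c * z * c⁻¹ := hwz
    have h5 : w = z := mul_left_cancel (mul_right_cancel h4)
    rw [← h5]
    exact hw

end sylow

theorem core_bot_of_sit {G : Type u} [Group G] [Finite G] {p : ℕ} [hp : Fact p.Prime] {M : Ideal AlgInt}
    {K : Subgroup G} {X : Type v} [Group X] [IsSimpleGroup X] (hna : ∃ a b : X, a * b ≠ b * a)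
    (hd : p ∣ Nat.card X) (hS : Sit p M G K X) : pPrimeCore p G = ⊥ := by
  obtain ⟨f⟩ := hS.iso
  have := hS.normal
  have : Nontrivial K := f.symm.toEquiv.nontrivial
  have : IsSimpleGroup K := IsSimpleGroup.isSimpleGroup_of_surjective f.toMonoidHom f.surjective
  refine H349.K6.core_eq_bot (K := K) ?_ hS.cent (by rw [← Nat.card_congr f.toEquiv]; exact hd)
  obtain ⟨a, b, hab⟩ := hna
  exact ⟨f a, f b, fun h => hab (f.injective (by rw [map_mul, map_mul, h]))⟩

/-- **`|P| = 25`, three classes of weight two** -/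
theorem krow_of_tri {X : Type v} [Group X] [Finite X] [IsSimpleGroup X] (hna : ∃ a b : X, a * b ≠ b * a)
    (h3 : ¬ 5 ^ 3 ∣ Nat.card X) {A : Subgroup X} {x y h : Fin 3 → X} {u : Fin 5 → X} (D : TriX A x y h u) :
    KRow.{u, v} 5 X := by
  intro M G _ _ K hS
  have : Fact (Nat.Prime 5) := ⟨hS.prime⟩
  obtain ⟨f⟩ := hS.iso
  have := hS.normal
  have hd : 5 ∣ Nat.card X := by
    have h1 : Nat.card A ∣ Nat.card X := Subgroup.card_subgroup_dvd_card _
    rw [D.card] at h1
    exact (dvd_pow_self 5 two_ne_zero).trans h1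
  have hcore := core_bot_of_sit hna hd hS
  let θ : X →* G := K.subtype.comp f.toMonoidHom
  have hθ : Function.Injective θ := K.subtype_injective.comp f.injective
  have hθK : ∀ a, θ a ∈ K := fun a => (f a).2
  have hθs : ∀ k ∈ K, ∃ a, θ a = k := fun k hk => ⟨f.symm ⟨k, hk⟩, by
    change ((f (f.symm ⟨k, hk⟩) : K) : G) = k
    rw [f.apply_symm_apply]⟩
  have hcard : Nat.card (A.map θ) = 5 ^ 2 := by
    rw [← D.card]
    exact (Nat.card_congr (A.equivMapOfInjective θ hθ).toEquiv).symm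
  obtain ⟨P, hP⟩ := exists_sylow_eq (p := 5) hcard (not_dvd_sit hS h3)
  have hmem : ∀ a ∈ A, θ a ∈ (P : Subgroup G) := fun a ha => by rw [hP]; exact ⟨a, ha, rfl⟩
  refine seven_of_three hS.modular hcore K hS.ndvd P (by rw [← hcard, ← hP]) ?_ (θ ∘ x) (θ ∘ y) (θ ∘ h)
    (fun i => hmem _ (D.xA i)) (fun i h1 => D.x1 i (hθ (by rw [map_one]; exact h1)))
    (fun i => hmem _ (D.yA i)) (fun i h1 => D.y1 i (hθ (by rw [map_one]; exact h1)))
    (fun i => hθK _) ?_ (fun i => ?_) (fun i => ?_) ?_ (θ ∘ u) (fun i => hmem _ (D.uA i))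
    (hθ.comp D.u_inj) (fun i => ?_) ?_
  · intro g hg
    rw [hP] at hg
    obtain ⟨a, ha, rfl⟩ := hg
    rw [← map_pow, D.el a ha, map_one]
  · intro i
    apply mem_normalizer_of_conj
    intro g hg
    rw [hP] at hg ⊢
    obtain ⟨a, ha, rfl⟩ := hg
    exact ⟨h i * a * (h i)⁻¹, D.hN i a ha, by rw [map_mul, map_mul, map_inv]; rfl⟩
  · change θ (h i) * θ (x i) = θ (x i) * θ (h i)
    rw [← map_mul, D.hx, map_mul]
  · change θ (h i) * θ (y i) = (θ (y i))⁻¹ * θ (h i)
    rw [← map_mul, D.hy, map_mul, map_inv]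
  · rintro i j ⟨s, hs, hc⟩
    obtain ⟨a, rfl⟩ := hθs s hs
    apply D.conj
    rw [isConj_iff]
    refine ⟨a, hθ ?_⟩
    rw [map_mul, map_mul, map_inv]
    exact hc
  · obtain ⟨c, hc⟩ := isConj_iff.1 (D.ux i)
    refine ⟨θ c, hθK _, ?_⟩
    change θ c * θ (x 0) * (θ c)⁻¹ = θ (u i)
    rw [← hc, map_mul, map_mul, map_inv]
  · change (θ (h 0)) ^ 4 = 1
    rw [← map_pow, D.h4, map_one]

/-- **an abelian Sylow subgroup with an element of order `p²`** -/
theorem krow_of_long {p : ℕ} [hp : Fact p.Prime] (h5 : 4 ≤ p) {X : Type v} [Group X] [Finite X] [IsSimpleGroup X]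
    (hna : ∃ a b : X, a * b ≠ b * a) {A : Subgroup X} {m : ℕ} (hA : Nat.card A = p ^ m)
    (hX : ¬ p ^ (m + 1) ∣ Nat.card X) (hab : ∀ a ∈ A, ∀ b ∈ A, a * b = b * a) {x : X} (hx : x ∈ A)
    (ho : orderOf x = p ^ 2) : KRow.{u, v} p X := by
  intro M G _ _ K hS
  obtain ⟨f⟩ := hS.iso
  have := hS.normal
  have hd : p ∣ Nat.card X := by
    have h1 : orderOf x ∣ Nat.card X := orderOf_dvd_natCard x
    rw [ho] at h1
    exact (dvd_pow_self p two_ne_zero).trans h1
  let θ : X →* G := K.subtype.comp f.toMonoidHom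
  have hθ : Function.Injective θ := K.subtype_injective.comp f.injective
  have hcard : Nat.card (A.map θ) = p ^ m := by
    rw [← hA]
    exact (Nat.card_congr (A.equivMapOfInjective θ hθ).toEquiv).symm
  obtain ⟨P, hP⟩ := exists_sylow_eq (p := p) hcard (not_dvd_sit hS hX)
  have hc : ¬ HasNormalPComplement p G := fun h =>
    not_compl_of_simple hna hd (H634.ZJ.hasNormalPComplement_of_injective θ hθ h)
  have h1 := le_of_sq hS.modular P (x := θ x) (fun g hg => by
    rw [hP] at hg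
    obtain ⟨a, ha, rfl⟩ := hg
    rw [mem_centralizer_singleton_iff, ← map_mul, hab a ha x hx, map_mul]) (by
    rw [orderOf_injective θ hθ, ho]) hc
  omega

/-- the quotient by the centre -/
theorem TriX.mk' {E : Type v} [Group E] [Finite E] (hZ : ∀ z ∈ center E, z * z = 1) {A : Subgroup E}
    {x y h : Fin 3 → E} {u : Fin 5 → E} (D : TriX A x y h u) :
    TriX (A.map (QuotientGroup.mk' (center E))) (fun i => (x i : E ⧸ center E)) (fun i => (y i : E ⧸ center E))
      (fun i => (h i : E ⧸ center E)) (fun i => (u i : E ⧸ center E)) where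
  card := by
    rw [← D.card]
    have hinj : Function.Injective ((QuotientGroup.mk' (center E)).comp A.subtype) := by
      rw [injective_iff_map_eq_one]
      intro a ha
      exact Subtype.ext (mk_eq_one hZ (by decide : Odd 5) (D.el a a.2) ha)
    have h1 : A.map (QuotientGroup.mk' (center E)) = ((QuotientGroup.mk' (center E)).comp A.subtype).range := by
      rw [MonoidHom.range_comp, A.range_subtype]
    rw [h1]
    exact (Nat.card_congr (MonoidHom.ofInjective hinj).toEquiv).symm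
  el := by
    rintro _ ⟨a, ha, rfl⟩
    rw [← map_pow, D.el a ha, map_one]
  xA := fun i => ⟨_, D.xA i, rfl⟩
  x1 := fun i h1 => D.x1 i (mk_eq_one hZ (by decide : Odd 5) (D.el _ (D.xA i)) h1)
  yA := fun i => ⟨_, D.yA i, rfl⟩
  y1 := fun i h1 => D.y1 i (mk_eq_one hZ (by decide : Odd 5) (D.el _ (D.yA i)) h1)
  hN := by
    rintro i _ ⟨a, ha, rfl⟩
    exact ⟨h i * a * (h i)⁻¹, D.hN i a ha, rfl⟩
  hx := fun i => by rw [← QuotientGroup.mk_mul, D.hx, QuotientGroup.mk_mul]
  hy := fun i => by rw [← QuotientGroup.mk_mul, D.hy, QuotientGroup.mk_mul, QuotientGroup.mk_inv]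
  conj := fun i j hij => by
    apply D.conj
    obtain ⟨c, hc⟩ := isConj_iff.1 hij
    obtain ⟨c, rfl⟩ := QuotientGroup.mk_surjective c
    exact isConj_iff.2 ⟨c, conj_of_mk hZ (by decide : Odd 5) (D.el _ (D.xA i)) (D.el _ (D.xA j)) hc⟩
  uA := fun i => ⟨_, D.uA i, rfl⟩
  u_inj := fun i j hij => by
    apply D.u_inj
    have h1 : ((u i * (u j)⁻¹ : E) : E ⧸ center E) = 1 := by
      rw [QuotientGroup.mk_mul, QuotientGroup.mk_inv]
      exact mul_inv_eq_one.2 hij
    exact mul_inv_eq_one.1 (mk_eq_one hZ (by decide : Odd 5)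
      (D.el _ (A.mul_mem (D.uA i) (A.inv_mem (D.uA j)))) h1)
  ux := fun i => by
    obtain ⟨c, hc⟩ := isConj_iff.1 (D.ux i)
    exact isConj_iff.2 ⟨c, by rw [← hc]; rfl⟩
  h4 := by rw [← QuotientGroup.mk_pow, D.h4]; rfl

end Cfsg.Agent.H683.K6
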